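import Cfsg.Agent.H16.CosetBound

/-! Possible indices of overgroups of a point stabiliser, from the suborbit lengths. -/

set_option autoImplicit false

namespace Cfsg.Agent.H16

open EnumData

namespace EnumData

variable {D : EnumData} {G : Type*} [Group G] {s : Nat → G} {hV : D.Valid} {H : Subgroup G}
  (M : D.Model s hV H)

include M

/-- The index of the stabiliser in an overgroup is one plus a sum of suborbit lengths. -/
theorem Model.exists_relIndex {lab : PArr} {reps subs sizes : List Nat}
    (hsub : H ≤ Subgroup.closure {x | ∃ k ∈ subs, ev s (nthWord D.words k) = x})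
    (hlab : ∀ i, i < D.n → D.checkOrbit lab reps subs i = true)
    (hlen : ∀ i, i < D.n → bitField (lab.get 60 i) 0 8 < sizes.length)
    (hrep : ∀ l, l < sizes.length → reps.getD l D.n < D.n)
    (hl : ∀ l, l < sizes.length → bitField (lab.get 60 (reps.getD l D.n)) 0 8 = l)
    (hcount : ∀ l, l < sizes.length →
      countFrom (fun i => Nat.beq (bitField (lab.get 60 i) 0 8) l) D.n 0 = sizes.getD l 0)
    (hzero : bitField (lab.get 60 0) 0 8 = 0) (hone : sizes.getD 0 0 = 1)
    (K : Subgroup G) (hHK : H ≤ K) :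
    ∃ s' ∈ unionSizes sizes.tail, H.relIndex K = 1 + s' ∧ 1 + s' ∣ D.n := by
  classical
  set Lb : Fin D.n → Fin sizes.length := fun i => ⟨_, hlen i i.2⟩ with hLb
  set S : Finset (Fin D.n) := Finset.univ.filter fun i => ∃ x ∈ K, M.rho x ⟨0, hV.pos⟩ = i with hS
  have h0 : (⟨0, hV.pos⟩ : Fin D.n) ∈ S := by
    simp only [hS, Finset.mem_filter, Finset.mem_univ, true_and]
    exact ⟨1, K.one_mem, by simp⟩
  have hcoset : ∀ x : G, M.coset (M.rho x ⟨0, hV.pos⟩) = (x : G ⧸ H) := fun x => by
    rw [← M.smul_coset, M.coset_zero, MulAction.Quotient.smul_coe, smul_eq_mul, mul_one]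
  -- the size of `S` is the index of `H` in `K`
  have hcardS : S.card = H.relIndex K := by
    rw [← Finset.card_map ⟨M.coset, M.coset_bijective.1⟩, Subgroup.relIndex, Subgroup.index,
      ← Nat.card_eq_finsetCard]
    symm
    refine Nat.card_congr (Equiv.ofBijective
      (fun q => Quotient.liftOn' q (fun x => ⟨((x : G) : G ⧸ H), ?_⟩) ?_) ⟨?_, ?_⟩)
    · exact Finset.mem_map.mpr ⟨M.rho (x : G) ⟨0, hV.pos⟩,
        Finset.mem_filter.mpr ⟨Finset.mem_univ _, x, x.2, rfl⟩, hcoset x⟩
    · intro a b hab
      rw [QuotientGroup.leftRel_apply] at hab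
      exact Subtype.ext (QuotientGroup.eq.mpr (by simpa [Subgroup.mem_subgroupOf] using hab))
    · intro p q
      induction p using Quotient.inductionOn' with | h a => ?_
      induction q using Quotient.inductionOn' with | h b => ?_
      intro h
      have h' : ((a : G) : G ⧸ H) = ((b : G) : G ⧸ H) := congrArg Subtype.val h
      rw [QuotientGroup.eq] at h'
      exact QuotientGroup.eq.mpr (by simpa [Subgroup.mem_subgroupOf] using h')
    · rintro ⟨q, hq⟩
      obtain ⟨i, hi, rfl⟩ := Finset.mem_map.mp hq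
      obtain ⟨x, hx, rfl⟩ := (Finset.mem_filter.mp hi).2
      exact ⟨QuotientGroup.mk (⟨x, hx⟩ : K), Subtype.ext (hcoset x).symm⟩
  -- `S` is a union of suborbits
  have hunion : ∀ i ∈ S, ∀ j, Lb j = Lb i → j ∈ S := by
    intro i hi j hij
    obtain ⟨x, hx, hxi⟩ := (Finset.mem_filter.mp hi).2
    have hsame : ∀ k : Fin D.n, Lb k = Lb i →
        M.coset k ∈ MulAction.orbit H (M.coset ⟨reps.getD (Lb i) D.n, hrep _ (Lb i).2⟩) := by
      intro k hk
      have horb := M.orbit_eq_image hsub hlab (hrep _ (Lb i).2) (hl _ (Lb i).2)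
      rw [horb]
      exact ⟨k, congrArg Fin.val hk, rfl⟩
    have hjo := hsame j hij
    rw [← MulAction.orbit_eq_iff.mpr (hsame i rfl)] at hjo
    obtain ⟨y, hy⟩ := hjo
    refine Finset.mem_filter.mpr ⟨Finset.mem_univ _, (y : G) * x, K.mul_mem (hHK y.2) hx, ?_⟩
    apply M.coset_bijective.1
    rw [map_mul, Equiv.Perm.mul_apply, hxi, ← M.smul_coset]
    exact hy
  -- so its size is one plus a partial sum
  have hsum : S.card = ∑ l ∈ S.image Lb, sizes.getD l 0 := by
    rw [Finset.card_eq_sum_card_image Lb S]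
    refine Finset.sum_congr rfl fun l hl' => ?_
    obtain ⟨i, hi, rfl⟩ := Finset.mem_image.mp hl'
    rw [← hcount _ (Lb i).2, countFrom_spec, Nat.zero_add]
    refine Finset.card_bij (fun j _ => (j : Nat)) (fun j hj => ?_) (fun a _ b _ h => Fin.ext h)
      (fun m hm => ?_)
    · simp only [Finset.mem_filter, Finset.mem_Ico] at hj ⊢
      refine ⟨⟨Nat.zero_le _, j.2⟩, ?_⟩
      have : bitField (lab.get 60 j) 0 8 = (Lb i : Nat) := congrArg Fin.val hj.2
      simp [this]
    · simp only [Finset.mem_filter, Finset.mem_Ico] at hm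
      have hj : Lb ⟨m, hm.1.2⟩ = Lb i := Fin.ext (Nat.eq_of_beq_eq_true hm.2)
      exact ⟨⟨m, hm.1.2⟩, Finset.mem_filter.mpr ⟨hunion i hi _ hj, hj⟩, rfl⟩
  have hdvd : S.card ∣ D.n := by
    rw [hcardS, ← M.index_eq]
    exact Subgroup.relIndex_dvd_index_of_le hHK
  obtain ⟨s', hs', hs''⟩ : ∃ s' ∈ unionSizes sizes.tail, S.card = 1 + s' := by
    match hsz : sizes, hone with
    | [], h => simp at h
    | a :: rest, h =>
      have ha : a = 1 := h
      subst ha
      have hex : ∀ (l : List Nat) (T : Finset (Fin l.length)),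
          (∑ i ∈ T, l.getD i 0) ∈ unionSizes l := by
        intro l
        induction l with
        | nil =>
          intro T
          have hT0 : T = ∅ := Finset.eq_empty_of_forall_notMem fun x => x.elim0
          simp [unionSizes, hT0]
        | cons b l ih =>
          intro T
          simp only [unionSizes, List.mem_append, List.mem_map]
          set T' : Finset (Fin l.length) := Finset.univ.filter fun i => i.succ ∈ T
          have hT : (∑ i ∈ T, (b :: l).getD i 0) =
              (if (0 : Fin (b :: l).length) ∈ T then b else 0) + ∑ i ∈ T', l.getD i 0 := by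
            have e1 : (∑ i ∈ T, (b :: l).getD i 0) =
                ∑ i : Fin (b :: l).length, if i ∈ T then (b :: l).getD i 0 else 0 := by
              rw [Finset.sum_ite_mem, Finset.univ_inter]
            rw [e1]
            show (∑ i : Fin (l.length + 1), _) = _
            rw [Fin.sum_univ_succ, Finset.sum_filter]
            simp
          rw [hT]
          split
          · exact Or.inr ⟨_, ih T', rfl⟩
          · exact Or.inl (by rw [Nat.zero_add]; exact ih T')
      subst hsz
      set T := (S.image Lb) with hT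
      have h0T : (⟨0, Nat.succ_pos _⟩ : Fin (1 :: rest).length) ∈ T :=
        Finset.mem_image.mpr ⟨⟨0, hV.pos⟩, h0, Fin.ext hzero⟩
      set T' : Finset (Fin rest.length) := Finset.univ.filter fun i => i.succ ∈ T
      refine ⟨∑ i ∈ T', rest.getD i 0, hex rest T', ?_⟩
      rw [hsum]
      have e1 : (∑ i ∈ T, (1 :: rest).getD i 0) =
          ∑ i : Fin (1 :: rest).length, if i ∈ T then (1 :: rest).getD i 0 else 0 := by
        rw [Finset.sum_ite_mem, Finset.univ_inter]
      rw [e1]
      show (∑ i : Fin (rest.length + 1), _) = _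
      rw [Fin.sum_univ_succ, Finset.sum_filter]
      rw [if_pos (show (0 : Fin (rest.length + 1)) ∈ T from h0T)]
      simp
  exact ⟨s', hs', hcardS.symm.trans hs'', hs'' ▸ hdvd⟩

/-- Maximality when the only imprimitive possibility would be a subgroup of index two, which must
not exist. -/
theorem Model.eq_or_eq_top_of_two {lab : PArr} {reps subs sizes : List Nat}
    (hsub : H ≤ Subgroup.closure {x | ∃ k ∈ subs, ev s (nthWord D.words k) = x})
    (hlab : ∀ i, i < D.n → D.checkOrbit lab reps subs i = true)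
    (hlen : ∀ i, i < D.n → bitField (lab.get 60 i) 0 8 < sizes.length)
    (hrep : ∀ l, l < sizes.length → reps.getD l D.n < D.n)
    (hl : ∀ l, l < sizes.length → bitField (lab.get 60 (reps.getD l D.n)) 0 8 = l)
    (hcount : ∀ l, l < sizes.length →
      countFrom (fun i => Nat.beq (bitField (lab.get 60 i) 0 8) l) D.n 0 = sizes.getD l 0)
    (hzero : bitField (lab.get 60 0) 0 8 = 0) (hone : sizes.getD 0 0 = 1)
    (hdiv : ∀ s' ∈ unionSizes sizes.tail, 1 + s' ∣ D.n →
      1 + s' = 1 ∨ 1 + s' = D.n ∨ (1 + s') * 2 = D.n)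
    (htwo : ∀ K : Subgroup G, K.index ≠ 2)
    (K : Subgroup G) (hHK : H ≤ K) : K = H ∨ K = ⊤ := by
  obtain ⟨s', hs', he, hd⟩ := M.exists_relIndex hsub hlab hlen hrep hl hcount hzero hone K hHK
  have h2 := Subgroup.relIndex_mul_index hHK
  rw [he, M.index_eq] at h2
  have := hV.pos
  rcases hdiv s' hs' hd with h | h | h
  · exact Or.inl (le_antisymm (Subgroup.relIndex_eq_one.mp (by rw [he, h])) hHK)
  · exact Or.inr (Subgroup.index_eq_one.mp (by rw [h] at h2; nlinarith))
  · exact absurd (by nlinarith : K.index = 2) (htwo K)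

end EnumData

end Cfsg.Agent.H16
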