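import Cfsg.Agent.H16.CosetBound

/-!
Lower bounds for the image of an arbitrary subgroup from base certificates.
-/

set_option autoImplicit false

namespace Cfsg.Agent.H16

open EnumData

namespace EnumData

variable {D : EnumData} {G : Type*} [Group G] {s : Nat → G} {hV : D.Valid} {H : Subgroup G}
  (M : D.Model s hV H)

/-- The permutations coming from a given subgroup that fix the given points. -/
def Model.grpFixer (K : Subgroup G) (fixed : List Nat) : Subgroup (Equiv.Perm (Fin D.n)) where
  carrier := {σ | σ ∈ K.map M.rho ∧ ∀ i : Fin D.n, (i : Nat) ∈ fixed → σ i = i}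
  one_mem' := ⟨one_mem _, fun i _ => rfl⟩
  mul_mem' := fun ha hb => ⟨mul_mem ha.1 hb.1, fun i hi => by
    rw [Equiv.Perm.mul_apply, hb.2 i hi, ha.2 i hi]⟩
  inv_mem' := fun ha => ⟨inv_mem ha.1, fun i hi => by
    rw [Equiv.Perm.inv_eq_iff_eq, ha.2 i hi]⟩

include M

theorem Model.mul_card_le_grpLevel {K : Subgroup G} {fixed : List Nat} {L : BaseLevel}
    (h : D.checkLevel fixed L = true) (hK : ∀ w ∈ L.gens, ev s w ∈ K) :
    L.m * Nat.card (M.grpFixer K (L.b :: fixed)) ≤ Nat.card (M.grpFixer K fixed) := by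
  simp only [checkLevel, Bool.and_eq_true, List.all_eq_true, forceNat_eq] at h
  obtain ⟨⟨⟨hb, hm⟩, hgens⟩, hpts⟩ := h
  have hb' : L.b < D.n := Nat.le_of_ble_eq_true hb
  set b : Fin D.n := ⟨L.b, hb'⟩ with hbdef
  have hlt : ∀ w ∈ L.gens, ∀ g ∈ w, g < D.ng := fun w hw g hg =>
    Nat.le_of_ble_eq_true ((hgens w hw).1 g hg)
  have hgenmem : ∀ w ∈ L.gens, ev hV.perm w ∈ M.grpFixer K fixed := by
    refine fun w hw => ⟨⟨ev s w, hK w hw, M.rho_ev w⟩,
      fun i hi => Fin.ext ?_⟩
    rw [hV.perm_word w (hlt w hw)]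
    exact Nat.eq_of_beq_eq_true ((hgens w hw).2 i hi)
  have key : ∀ j, j < L.m → ∃ σ ∈ M.grpFixer K fixed,
      ((σ b : Fin D.n) : Nat) = L.pts.get 18 j := by
    intro j
    induction j using Nat.strong_induction_on with
    | _ j IH =>
      intro hj
      have hh := allFrom_spec hpts j (Nat.zero_le j) (by omega)
      simp only [forceNat_eq, Bool.and_eq_true] at hh
      obtain ⟨-, hh⟩ := hh
      cases h0 : Nat.beq j 0 with
      | true =>
        simp only [h0] at hh
        exact ⟨1, one_mem _, (Nat.eq_of_beq_eq_true hh).symm⟩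
      | false =>
        simp only [h0, Bool.and_eq_true] at hh
        obtain ⟨⟨hp, hk⟩, hrun⟩ := hh
        have hp' := Nat.le_of_ble_eq_true hp
        have hk' := Nat.le_of_ble_eq_true hk
        obtain ⟨σ, hσ, hσb⟩ := IH _ hp' (by omega)
        have hw : L.gens.getD (bitField (L.ent.get 30 j) 18 12) [] ∈ L.gens := by
          rw [List.getD_eq_getElem _ _ hk']
          exact List.getElem_mem _
        refine ⟨_ * σ, mul_mem (hgenmem _ hw) hσ, ?_⟩
        rw [Equiv.Perm.mul_apply, hV.perm_word _ (hlt _ hw), hσb]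
        exact Nat.eq_of_beq_eq_true hrun
  choose σ hσ hσb using key
  have horb : L.m ≤ Nat.card (MulAction.orbit (M.grpFixer K fixed) b) := by
    let f : Fin L.m → MulAction.orbit (M.grpFixer K fixed) b := fun j =>
      ⟨σ j j.2 b, ⟨⟨σ j j.2, hσ j j.2⟩, rfl⟩⟩
    have hf : Function.Injective f := by
      intro i j hij
      have hij' : L.pts.get 18 i = L.pts.get 18 j := by
        rw [← hσb i i.2, ← hσb j j.2]
        exact congrArg
          (fun z : MulAction.orbit (M.grpFixer K fixed) b => ((z : Fin D.n) : Nat)) hij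
      have hi := allFrom_spec hpts i (Nat.zero_le _) (by omega)
      have hj := allFrom_spec hpts j (Nat.zero_le _) (by omega)
      simp only [forceNat_eq, Bool.and_eq_true] at hi hj
      have e1 := Nat.eq_of_beq_eq_true hi.1
      have e2 := Nat.eq_of_beq_eq_true hj.1
      exact Fin.ext (by rw [← e1, ← e2, hij'])
    simpa using Nat.card_le_card_of_injective f hf
  have hstab : Nat.card (M.grpFixer K (L.b :: fixed)) ≤
      Nat.card (MulAction.stabilizer (M.grpFixer K fixed) b) := by
    refine Nat.card_le_card_of_injective (fun x => ⟨⟨x.1, x.2.1, fun i hi =>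
      x.2.2 i (List.mem_cons_of_mem _ hi)⟩, ?_⟩) ?_
    · exact MulAction.mem_stabilizer_iff.mpr (x.2.2 b (List.mem_cons_self ..))
    · intro x y h
      have h2 := congrArg Subtype.val (congrArg Subtype.val h)
      exact Subtype.ext h2
  calc L.m * Nat.card (M.grpFixer K (L.b :: fixed))
      ≤ Nat.card (MulAction.orbit (M.grpFixer K fixed) b) *
          Nat.card (MulAction.stabilizer (M.grpFixer K fixed) b) := Nat.mul_le_mul horb hstab
    _ = Nat.card (M.grpFixer K fixed) := by
        rw [← Nat.card_prod]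
        exact Nat.card_congr (MulAction.orbitProdStabilizerEquivGroup (M.grpFixer K fixed) b)

theorem Model.levelsProd_le_grpFixer (K : Subgroup G) (ls : List BaseLevel) :
    ∀ (fixed : List Nat), D.checkLevels ls fixed = true →
      (∀ L ∈ ls, ∀ w ∈ L.gens, ev s w ∈ K) →
      levelsProd ls ≤ Nat.card (M.grpFixer K fixed) := by
  induction ls with
  | nil => intro _ _ _; exact Nat.card_pos
  | cons L rest ih =>
    intro fixed h hK
    simp only [checkLevels, Bool.and_eq_true] at h
    exact (Nat.mul_le_mul_left L.m (ih _ h.2 fun B hB => hK B (List.mem_cons_of_mem _ hB))).trans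
      (M.mul_card_le_grpLevel h.1 (hK L (List.mem_cons_self ..)))

/-- A lower bound for the image of a subgroup containing the words of a base certificate. -/
theorem Model.levelsProd_le_subgroup (K : Subgroup G) {ls : List BaseLevel}
    (h : D.checkLevels ls [] = true) (hK : ∀ L ∈ ls, ∀ w ∈ L.gens, ev s w ∈ K) :
    levelsProd ls ≤ Nat.card (K.map M.rho) :=
  (M.levelsProd_le_grpFixer K ls [] h hK).trans (Nat.card_le_card_of_injective
    (fun x => ⟨x.1, x.2.1⟩) fun x y h' => by
      have h2 := congrArg Subtype.val h'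
      exact Subtype.ext h2)

end EnumData

end Cfsg.Agent.H16
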