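import Cfsg.Agent.H16.Fi23HData

/-! Kernel checks of rows from 0: Fi23, subgroup H. -/

set_option autoImplicit false

namespace Cfsg.Agent.H16.Fi23H

open EnumData

theorem rows_0 : allFrom (fun i => data.checkRow i) 500 0 = true := by decide +kernel

theorem rows_500 : allFrom (fun i => data.checkRow i) 500 500 = true := by decide +kernel

theorem rows_1000 : allFrom (fun i => data.checkRow i) 500 1000 = true := by decide +kernel

theorem rows_1500 : allFrom (fun i => data.checkRow i) 500 1500 = true := by decide +kernel

theorem rows_2000 : allFrom (fun i => data.checkRow i) 500 2000 = true := by decide +kernel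

theorem rows_2500 : allFrom (fun i => data.checkRow i) 500 2500 = true := by decide +kernel

theorem rows_3000 : allFrom (fun i => data.checkRow i) 500 3000 = true := by decide +kernel

end Cfsg.Agent.H16.Fi23H
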