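import Cfsg.Agent.H16.Fi23HData

/-! Kernel checks of rows from 7000: Fi23, subgroup H. -/

set_option autoImplicit false

namespace Cfsg.Agent.H16.Fi23H

open EnumData

theorem rows_7000 : allFrom (fun i => data.checkRow i) 500 7000 = true := by decide +kernel

theorem rows_7500 : allFrom (fun i => data.checkRow i) 500 7500 = true := by decide +kernel

theorem rows_8000 : allFrom (fun i => data.checkRow i) 500 8000 = true := by decide +kernel

theorem rows_8500 : allFrom (fun i => data.checkRow i) 500 8500 = true := by decide +kernel

theorem rows_9000 : allFrom (fun i => data.checkRow i) 500 9000 = true := by decide +kernel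

theorem rows_9500 : allFrom (fun i => data.checkRow i) 500 9500 = true := by decide +kernel

theorem rows_10000 : allFrom (fun i => data.checkRow i) 500 10000 = true := by decide +kernel

end Cfsg.Agent.H16.Fi23H
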