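import Cfsg.Agent.H16.Fi23HData
import Cfsg.Agent.H16.Fi23HRows9
import Cfsg.Agent.H16.Fi23HRows8
import Cfsg.Agent.H16.Fi23HRows7
import Cfsg.Agent.H16.Fi23HRows6
import Cfsg.Agent.H16.Fi23HRows5
import Cfsg.Agent.H16.Fi23HRows4
import Cfsg.Agent.H16.Fi23HRows3
import Cfsg.Agent.H16.Fi23HRows2
import Cfsg.Agent.H16.Fi23HRows1
import Cfsg.Agent.H16.Fi23HRows0
import Cfsg.Agent.H16.Fi23HFacts0
import Cfsg.Agent.H16.Fi23HFacts1
import Cfsg.Agent.H16.Fi23HFacts2
import Cfsg.Agent.H16.Fi23HFacts3
import Cfsg.Agent.H16.Fi23HFacts4
import Cfsg.Agent.H16.Fi23HFacts5
import Cfsg.Agent.H16.Fi23HFacts6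
import Cfsg.Agent.H16.Fi23HFacts7
import Cfsg.Agent.H16.Fi23HFacts8

/-! Kernel checks of the certificate: Fi23, subgroup H. -/

set_option autoImplicit false

namespace Cfsg.Agent.H16.Fi23H

open EnumData

theorem base_check : data.checkBase = true := by decide +kernel

/-- The certificate is valid. -/
theorem valid : data.Valid where
  facts_ok :=
    (allFrom_extend (allFrom_extend (allFrom_extend (allFrom_extend (allFrom_extend (allFrom_extend (allFrom_extend (allFrom_extend (allFrom_extend (allFrom_extend (allFrom_extend (allFrom_extend (allFrom_extend (allFrom_extend (allFrom_extend (allFrom_extend (allFrom_extend (allFrom_extend (allFrom_extend (allFrom_extend (allFrom_extend (allFrom_extend (allFrom_extend (allFrom_extend (allFrom_extend (allFrom_extend (allFrom_extend (allFrom_extend (allFrom_extend (allFrom_extend (allFrom_extend (allFrom_extend (allFrom_extend (allFrom_extend (allFrom_extend (allFrom_extend (allFrom_extend (allFrom_extend (allFrom_extend (allFrom_extend (allFrom_extend (allFrom_extend (allFrom_extend (allFrom_extend (allFrom_extend (allFrom_extend (allFrom_extend (allFrom_extend (allFrom_extend (allFrom_extend (allFrom_extend (allFrom_extend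 (allFrom_extend (allFrom_extend (allFrom_extend (allFrom_extend (allFrom_extend (allFrom_extend (allFrom_extend (allFrom_extend (allFrom_extend (allFrom_extend (allFrom_extend (allFrom_extend (allFrom_extend (allFrom_extend (allFrom_extend (allFrom_extend (allFrom_extend (allFrom_extend (allFrom_extend (allFrom_extend (allFrom_extend (allFrom_extend (allFrom_extend (allFrom_extend (allFrom_extend (allFrom_extend (allFrom_extend (allFrom_extend (allFrom_extend (allFrom_extend (allFrom_extend (allFrom_extend (allFrom_extend (allFrom_extend (allFrom_extend (allFrom_extend (allFrom_extend (allFrom_extend (allFrom_extend (allFrom_extend (allFrom_extend (allFrom_extend (allFrom_extend (allFrom_extend (allFrom_extend (allFrom_extend (allFrom_extend (allFrom_extend (allFrom_extend (allFrom_extend (allFrom_extend (allFrom_extend (allFrom_extend (allFrom_extend (allFrom_extend (allFrom_extend allFrom_nil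
    facts_0)
    facts_2000)
    facts_4000)
    facts_6000)
    facts_8000)
    facts_10000)
    facts_12000)
    facts_14000)
    facts_16000)
    facts_18000)
    facts_20000)
    facts_22000)
    facts_24000)
    facts_26000)
    facts_28000)
    facts_30000)
    facts_32000)
    facts_34000)
    facts_36000)
    facts_38000)
    facts_40000)
    facts_42000)
    facts_44000)
    facts_46000)
    facts_48000)
    facts_50000)
    facts_52000)
    facts_54000)
    facts_56000)
    facts_58000)
    facts_60000)
    facts_62000)
    facts_64000)
    facts_66000)
    facts_68000)
    facts_70000)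
    facts_72000)
    facts_74000)
    facts_76000)
    facts_78000)
    facts_80000)
    facts_82000)
    facts_84000)
    facts_86000)
    facts_88000)
    facts_90000)
    facts_92000)
    facts_94000)
    facts_96000)
    facts_98000)
    facts_100000)
    facts_102000)
    facts_104000)
    facts_106000)
    facts_108000)
    facts_110000)
    facts_112000)
    facts_114000)
    facts_116000)
    facts_118000)
    facts_120000)
    facts_122000)
    facts_124000)
    facts_126000)
    facts_128000)
    facts_130000)
    facts_132000)
    facts_134000)
    facts_136000)
    facts_138000)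
    facts_140000)
    facts_142000)
    facts_144000)
    facts_146000)
    facts_148000)
    facts_150000)
    facts_152000)
    facts_154000)
    facts_156000)
    facts_158000)
    facts_160000)
    facts_162000)
    facts_164000)
    facts_166000)
    facts_168000)
    facts_170000)
    facts_172000)
    facts_174000)
    facts_176000)
    facts_178000)
    facts_180000)
    facts_182000)
    facts_184000)
    facts_186000)
    facts_188000)
    facts_190000)
    facts_192000)
    facts_194000)
    facts_196000)
    facts_198000)
    facts_200000)
    facts_202000)
    facts_204000)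
    facts_206000)
    facts_208000)
    facts_210000)
    facts_212000)
    facts_214000)
  rows_ok :=
    (allFrom_extend (allFrom_extend (allFrom_extend (allFrom_extend (allFrom_extend (allFrom_extend (allFrom_extend (allFrom_extend (allFrom_extend (allFrom_extend (allFrom_extend (allFrom_extend (allFrom_extend (allFrom_extend (allFrom_extend (allFrom_extend (allFrom_extend (allFrom_extend (allFrom_extend (allFrom_extend (allFrom_extend (allFrom_extend (allFrom_extend (allFrom_extend (allFrom_extend (allFrom_extend (allFrom_extend (allFrom_extend (allFrom_extend (allFrom_extend (allFrom_extend (allFrom_extend (allFrom_extend (allFrom_extend (allFrom_extend (allFrom_extend (allFrom_extend (allFrom_extend (allFrom_extend (allFrom_extend (allFrom_extend (allFrom_extend (allFrom_extend (allFrom_extend (allFrom_extend (allFrom_extend (allFrom_extend (allFrom_extend (allFrom_extend (allFrom_extend (allFrom_extend (allFrom_extend (allFrom_extend (allFrom_extend (allFrom_extend (allFrom_extend (allFrom_extend (allFrom_extend (allFrom_extend (allFrom_extend (allFrom_extend (allFrom_extend (allFrom_extend (allFrom_extend allFrom_nil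
    rows_0)
    rows_500)
    rows_1000)
    rows_1500)
    rows_2000)
    rows_2500)
    rows_3000)
    rows_3500)
    rows_4000)
    rows_4500)
    rows_5000)
    rows_5500)
    rows_6000)
    rows_6500)
    rows_7000)
    rows_7500)
    rows_8000)
    rows_8500)
    rows_9000)
    rows_9500)
    rows_10000)
    rows_10500)
    rows_11000)
    rows_11500)
    rows_12000)
    rows_12500)
    rows_13000)
    rows_13500)
    rows_14000)
    rows_14500)
    rows_15000)
    rows_15500)
    rows_16000)
    rows_16500)
    rows_17000)
    rows_17500)
    rows_18000)
    rows_18500)
    rows_19000)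
    rows_19500)
    rows_20000)
    rows_20500)
    rows_21000)
    rows_21500)
    rows_22000)
    rows_22500)
    rows_23000)
    rows_23500)
    rows_24000)
    rows_24500)
    rows_25000)
    rows_25500)
    rows_26000)
    rows_26500)
    rows_27000)
    rows_27500)
    rows_28000)
    rows_28500)
    rows_29000)
    rows_29500)
    rows_30000)
    rows_30500)
    rows_31000)
    rows_31500)
  base_ok := base_check

end Cfsg.Agent.H16.Fi23H
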