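import Cfsg.Agent.H16.J2UCheck

/-! Orbits of the subgroup on the cosets: J2, subgroup U. -/

set_option autoImplicit false

namespace Cfsg.Agent.H16.J2U

open EnumData

local notation "L" => PArr.leaf
local notation "N" => PArr.node

/-- orbit labels -/
def labArr : PArr :=
(L 0x65001880004020066001500003020067000e80006010066001100004010067000940004010066001300004020067000ac0007010067000640003010066000b80007010067000580005010066001800005010066000c00007020067000c40005010067000040001010066000d40004020066000600002020067000440004010067000600002020067000a80006010066000d800050100670003c00030200650016400060100660010800040200650015000030200660011400040200670008400060100660017800050200670008800040100670001000020100660013c00040200670015000030200670002400030100670001400050100660003c0003020067000680003010066001880004020067000d000050100650014000060100670005c0004020065001340005020067001880004020066001200005010066001000005020065000a40005020066001040004010067000280004010066001480003020066001700004010066000a800060100670004000020100650008800040100660001800060200660008c00030200660015c00060100670008c0003020066001640006010066000700006010066000c40005010066000bc0004020065000740005010065000700006010065000dc00050100650006400030100660017c00050100660001c00020200660011c0003010065000580005010066000cc00070100660004800050100670007400050100660008800040100660007400050100650004800050100660001000020100660015800020100660000c00010200650008c0003020066000940004010067000a00006010065000340004010067000480005010066000340004010065000680003010066000040001010065000600002020066000ec0005020066000640003010066000500005010066000e00006020066000680003010065000400002010066000b400040200670000c000102006600020000502006500028000401006500004000101000000000000002006600024000301000000000000001000000000000000)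

/-- orbit representatives -/
def orbitReps : List Nat := [0, 1, 3]

/-- subgroup words -/
def subWords : List Nat := [101, 102, 103]

theorem orbit_0 : allFrom (fun i => data.checkOrbit labArr orbitReps subWords i) 100 0 = true := by decide +kernel

theorem orbits_ok : ∀ i, i < data.n → data.checkOrbit labArr orbitReps subWords i = true :=
  (allFrom_extend allFrom_nil orbit_0)

theorem count_0 : countFrom (fun i => Nat.beq (bitField (labArr.get 60 i) 0 8) 0) data.n 0 = 1 := by decide +kernel

theorem rep_lt_0 : orbitReps.getD 0 data.n < data.n := by decide +kernel

theorem rep_lab_0 : bitField (labArr.get 60 (orbitReps.getD 0 data.n)) 0 8 = 0 := by decide +kernel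

theorem count_1 : countFrom (fun i => Nat.beq (bitField (labArr.get 60 i) 0 8) 1) data.n 0 = 63 := by decide +kernel

theorem rep_lt_1 : orbitReps.getD 1 data.n < data.n := by decide +kernel

theorem rep_lab_1 : bitField (labArr.get 60 (orbitReps.getD 1 data.n)) 0 8 = 1 := by decide +kernel

theorem count_2 : countFrom (fun i => Nat.beq (bitField (labArr.get 60 i) 0 8) 2) data.n 0 = 36 := by decide +kernel

theorem rep_lt_2 : orbitReps.getD 2 data.n < data.n := by decide +kernel

theorem rep_lab_2 : bitField (labArr.get 60 (orbitReps.getD 2 data.n)) 0 8 = 2 := by decide +kernel

end Cfsg.Agent.H16.J2U
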