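import Cfsg.Agent.H16.ON7OutRows
import Cfsg.Agent.H16.CosetSplit

/-! Kernel checks of the rows, part 1. -/

set_option autoImplicit false

namespace Cfsg.Agent.H16.ON7Out

open EnumData

theorem rowX_10000 : allFrom stepX 2000 10000 = true := by decide +kernel

theorem rowY_10000 : allFrom stepY 2000 10000 = true := by decide +kernel

theorem rowX_12000 : allFrom stepX 2000 12000 = true := by decide +kernel

theorem rowY_12000 : allFrom stepY 2000 12000 = true := by decide +kernel

theorem rowX_14000 : allFrom stepX 2000 14000 = true := by decide +kernel

theorem rowY_14000 : allFrom stepY 2000 14000 = true := by decide +kernel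

theorem rowX_16000 : allFrom stepX 2000 16000 = true := by decide +kernel

theorem rowY_16000 : allFrom stepY 2000 16000 = true := by decide +kernel

theorem rowX_18000 : allFrom stepX 2000 18000 = true := by decide +kernel

theorem rowY_18000 : allFrom stepY 2000 18000 = true := by decide +kernel

end Cfsg.Agent.H16.ON7Out
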