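import Cfsg.Agent.H16.ON7OutRows
import Cfsg.Agent.H16.CosetSplit

/-! Kernel checks of the rows, part 10. -/

set_option autoImplicit false

namespace Cfsg.Agent.H16.ON7Out

open EnumData

theorem rowX_100000 : allFrom stepX 2000 100000 = true := by decide +kernel

theorem rowY_100000 : allFrom stepY 2000 100000 = true := by decide +kernel

theorem rowX_102000 : allFrom stepX 2000 102000 = true := by decide +kernel

theorem rowY_102000 : allFrom stepY 2000 102000 = true := by decide +kernel

theorem rowX_104000 : allFrom stepX 2000 104000 = true := by decide +kernel

theorem rowY_104000 : allFrom stepY 2000 104000 = true := by decide +kernel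

theorem rowX_106000 : allFrom stepX 2000 106000 = true := by decide +kernel

theorem rowY_106000 : allFrom stepY 2000 106000 = true := by decide +kernel

theorem rowX_108000 : allFrom stepX 2000 108000 = true := by decide +kernel

theorem rowY_108000 : allFrom stepY 2000 108000 = true := by decide +kernel

end Cfsg.Agent.H16.ON7Out
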