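import Cfsg.Agent.H16.ON7OutRows
import Cfsg.Agent.H16.CosetSplit

/-! Kernel checks of the rows, part 11. -/

set_option autoImplicit false

namespace Cfsg.Agent.H16.ON7Out

open EnumData

theorem rowX_110000 : allFrom stepX 2000 110000 = true := by decide +kernel

theorem rowY_110000 : allFrom stepY 2000 110000 = true := by decide +kernel

theorem rowX_112000 : allFrom stepX 2000 112000 = true := by decide +kernel

theorem rowY_112000 : allFrom stepY 2000 112000 = true := by decide +kernel

theorem rowX_114000 : allFrom stepX 2000 114000 = true := by decide +kernel

theorem rowY_114000 : allFrom stepY 2000 114000 = true := by decide +kernel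

theorem rowX_116000 : allFrom stepX 2000 116000 = true := by decide +kernel

theorem rowY_116000 : allFrom stepY 2000 116000 = true := by decide +kernel

theorem rowX_118000 : allFrom stepX 2000 118000 = true := by decide +kernel

theorem rowY_118000 : allFrom stepY 2000 118000 = true := by decide +kernel

end Cfsg.Agent.H16.ON7Out
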