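import Cfsg.Agent.H16.ON7OutRows
import Cfsg.Agent.H16.CosetSplit

/-! Kernel checks of the rows, part 12. -/

set_option autoImplicit false

namespace Cfsg.Agent.H16.ON7Out

open EnumData

theorem rowX_120000 : allFrom stepX 2000 120000 = true := by decide +kernel

theorem rowY_120000 : allFrom stepY 2000 120000 = true := by decide +kernel

theorem rowX_122000 : allFrom stepX 760 122000 = true := by decide +kernel

theorem rowY_122000 : allFrom stepY 760 122000 = true := by decide +kernel

end Cfsg.Agent.H16.ON7Out
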