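import Cfsg.Agent.H16.ON7OutRows
import Cfsg.Agent.H16.CosetSplit

/-! Kernel checks of the rows, part 2. -/

set_option autoImplicit false

namespace Cfsg.Agent.H16.ON7Out

open EnumData

theorem rowX_20000 : allFrom stepX 2000 20000 = true := by decide +kernel

theorem rowY_20000 : allFrom stepY 2000 20000 = true := by decide +kernel

theorem rowX_22000 : allFrom stepX 2000 22000 = true := by decide +kernel

theorem rowY_22000 : allFrom stepY 2000 22000 = true := by decide +kernel

theorem rowX_24000 : allFrom stepX 2000 24000 = true := by decide +kernel

theorem rowY_24000 : allFrom stepY 2000 24000 = true := by decide +kernel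

theorem rowX_26000 : allFrom stepX 2000 26000 = true := by decide +kernel

theorem rowY_26000 : allFrom stepY 2000 26000 = true := by decide +kernel

theorem rowX_28000 : allFrom stepX 2000 28000 = true := by decide +kernel

theorem rowY_28000 : allFrom stepY 2000 28000 = true := by decide +kernel

end Cfsg.Agent.H16.ON7Out
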