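import Cfsg.Agent.H16.ON7OutRows
import Cfsg.Agent.H16.CosetSplit

/-! Kernel checks of the rows, part 3. -/

set_option autoImplicit false

namespace Cfsg.Agent.H16.ON7Out

open EnumData

theorem rowX_30000 : allFrom stepX 2000 30000 = true := by decide +kernel

theorem rowY_30000 : allFrom stepY 2000 30000 = true := by decide +kernel

theorem rowX_32000 : allFrom stepX 2000 32000 = true := by decide +kernel

theorem rowY_32000 : allFrom stepY 2000 32000 = true := by decide +kernel

theorem rowX_34000 : allFrom stepX 2000 34000 = true := by decide +kernel

theorem rowY_34000 : allFrom stepY 2000 34000 = true := by decide +kernel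

theorem rowX_36000 : allFrom stepX 2000 36000 = true := by decide +kernel

theorem rowY_36000 : allFrom stepY 2000 36000 = true := by decide +kernel

theorem rowX_38000 : allFrom stepX 2000 38000 = true := by decide +kernel

theorem rowY_38000 : allFrom stepY 2000 38000 = true := by decide +kernel

end Cfsg.Agent.H16.ON7Out
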