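import Cfsg.Agent.H16.ON7OutRows
import Cfsg.Agent.H16.CosetSplit

/-! Kernel checks of the rows, part 4. -/

set_option autoImplicit false

namespace Cfsg.Agent.H16.ON7Out

open EnumData

theorem rowX_40000 : allFrom stepX 2000 40000 = true := by decide +kernel

theorem rowY_40000 : allFrom stepY 2000 40000 = true := by decide +kernel

theorem rowX_42000 : allFrom stepX 2000 42000 = true := by decide +kernel

theorem rowY_42000 : allFrom stepY 2000 42000 = true := by decide +kernel

theorem rowX_44000 : allFrom stepX 2000 44000 = true := by decide +kernel

theorem rowY_44000 : allFrom stepY 2000 44000 = true := by decide +kernel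

theorem rowX_46000 : allFrom stepX 2000 46000 = true := by decide +kernel

theorem rowY_46000 : allFrom stepY 2000 46000 = true := by decide +kernel

theorem rowX_48000 : allFrom stepX 2000 48000 = true := by decide +kernel

theorem rowY_48000 : allFrom stepY 2000 48000 = true := by decide +kernel

end Cfsg.Agent.H16.ON7Out
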