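import Cfsg.Agent.H16.ON7OutRows
import Cfsg.Agent.H16.CosetSplit

/-! Kernel checks of the rows, part 5. -/

set_option autoImplicit false

namespace Cfsg.Agent.H16.ON7Out

open EnumData

theorem rowX_50000 : allFrom stepX 2000 50000 = true := by decide +kernel

theorem rowY_50000 : allFrom stepY 2000 50000 = true := by decide +kernel

theorem rowX_52000 : allFrom stepX 2000 52000 = true := by decide +kernel

theorem rowY_52000 : allFrom stepY 2000 52000 = true := by decide +kernel

theorem rowX_54000 : allFrom stepX 2000 54000 = true := by decide +kernel

theorem rowY_54000 : allFrom stepY 2000 54000 = true := by decide +kernel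

theorem rowX_56000 : allFrom stepX 2000 56000 = true := by decide +kernel

theorem rowY_56000 : allFrom stepY 2000 56000 = true := by decide +kernel

theorem rowX_58000 : allFrom stepX 2000 58000 = true := by decide +kernel

theorem rowY_58000 : allFrom stepY 2000 58000 = true := by decide +kernel

end Cfsg.Agent.H16.ON7Out
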