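import Cfsg.Agent.H16.ON7OutRows
import Cfsg.Agent.H16.CosetSplit

/-! Kernel checks of the rows, part 6. -/

set_option autoImplicit false

namespace Cfsg.Agent.H16.ON7Out

open EnumData

theorem rowX_60000 : allFrom stepX 2000 60000 = true := by decide +kernel

theorem rowY_60000 : allFrom stepY 2000 60000 = true := by decide +kernel

theorem rowX_62000 : allFrom stepX 2000 62000 = true := by decide +kernel

theorem rowY_62000 : allFrom stepY 2000 62000 = true := by decide +kernel

theorem rowX_64000 : allFrom stepX 2000 64000 = true := by decide +kernel

theorem rowY_64000 : allFrom stepY 2000 64000 = true := by decide +kernel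

theorem rowX_66000 : allFrom stepX 2000 66000 = true := by decide +kernel

theorem rowY_66000 : allFrom stepY 2000 66000 = true := by decide +kernel

theorem rowX_68000 : allFrom stepX 2000 68000 = true := by decide +kernel

theorem rowY_68000 : allFrom stepY 2000 68000 = true := by decide +kernel

end Cfsg.Agent.H16.ON7Out
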