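import Cfsg.Agent.H16.ON7OutRows
import Cfsg.Agent.H16.CosetSplit

/-! Kernel checks of the rows, part 7. -/

set_option autoImplicit false

namespace Cfsg.Agent.H16.ON7Out

open EnumData

theorem rowX_70000 : allFrom stepX 2000 70000 = true := by decide +kernel

theorem rowY_70000 : allFrom stepY 2000 70000 = true := by decide +kernel

theorem rowX_72000 : allFrom stepX 2000 72000 = true := by decide +kernel

theorem rowY_72000 : allFrom stepY 2000 72000 = true := by decide +kernel

theorem rowX_74000 : allFrom stepX 2000 74000 = true := by decide +kernel

theorem rowY_74000 : allFrom stepY 2000 74000 = true := by decide +kernel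

theorem rowX_76000 : allFrom stepX 2000 76000 = true := by decide +kernel

theorem rowY_76000 : allFrom stepY 2000 76000 = true := by decide +kernel

theorem rowX_78000 : allFrom stepX 2000 78000 = true := by decide +kernel

theorem rowY_78000 : allFrom stepY 2000 78000 = true := by decide +kernel

end Cfsg.Agent.H16.ON7Out
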