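import Cfsg.Agent.H16.ON7OutRows
import Cfsg.Agent.H16.CosetSplit

/-! Kernel checks of the rows, part 8. -/

set_option autoImplicit false

namespace Cfsg.Agent.H16.ON7Out

open EnumData

theorem rowX_80000 : allFrom stepX 2000 80000 = true := by decide +kernel

theorem rowY_80000 : allFrom stepY 2000 80000 = true := by decide +kernel

theorem rowX_82000 : allFrom stepX 2000 82000 = true := by decide +kernel

theorem rowY_82000 : allFrom stepY 2000 82000 = true := by decide +kernel

theorem rowX_84000 : allFrom stepX 2000 84000 = true := by decide +kernel

theorem rowY_84000 : allFrom stepY 2000 84000 = true := by decide +kernel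

theorem rowX_86000 : allFrom stepX 2000 86000 = true := by decide +kernel

theorem rowY_86000 : allFrom stepY 2000 86000 = true := by decide +kernel

theorem rowX_88000 : allFrom stepX 2000 88000 = true := by decide +kernel

theorem rowY_88000 : allFrom stepY 2000 88000 = true := by decide +kernel

end Cfsg.Agent.H16.ON7Out
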