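import Cfsg.Agent.H16.ON7OutRows
import Cfsg.Agent.H16.CosetSplit

/-! Kernel checks of the rows, part 9. -/

set_option autoImplicit false

namespace Cfsg.Agent.H16.ON7Out

open EnumData

theorem rowX_90000 : allFrom stepX 2000 90000 = true := by decide +kernel

theorem rowY_90000 : allFrom stepY 2000 90000 = true := by decide +kernel

theorem rowX_92000 : allFrom stepX 2000 92000 = true := by decide +kernel

theorem rowY_92000 : allFrom stepY 2000 92000 = true := by decide +kernel

theorem rowX_94000 : allFrom stepX 2000 94000 = true := by decide +kernel

theorem rowY_94000 : allFrom stepY 2000 94000 = true := by decide +kernel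

theorem rowX_96000 : allFrom stepX 2000 96000 = true := by decide +kernel

theorem rowY_96000 : allFrom stepY 2000 96000 = true := by decide +kernel

theorem rowX_98000 : allFrom stepX 2000 98000 = true := by decide +kernel

theorem rowY_98000 : allFrom stepY 2000 98000 = true := by decide +kernel

end Cfsg.Agent.H16.ON7Out
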