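import Cfsg.Agent.H16.ON7OutCheck0
import Cfsg.Agent.H16.ON7OutCheck1
import Cfsg.Agent.H16.ON7OutCheck2
import Cfsg.Agent.H16.ON7OutCheck3
import Cfsg.Agent.H16.ON7OutCheck4
import Cfsg.Agent.H16.ON7OutCheck5
import Cfsg.Agent.H16.ON7OutCheck6
import Cfsg.Agent.H16.ON7OutCheck7
import Cfsg.Agent.H16.ON7OutCheck8
import Cfsg.Agent.H16.ON7OutCheck9
import Cfsg.Agent.H16.ON7OutCheck10
import Cfsg.Agent.H16.ON7OutCheck11
import Cfsg.Agent.H16.ON7OutCheck12

/-! All rows. -/

set_option autoImplicit false
set_option maxRecDepth 20000

namespace Cfsg.Agent.H16.ON7Out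

open EnumData

theorem stepsX : ∀ p, p < 122760 → stepX p = true :=
  (allFrom_extend (allFrom_extend (allFrom_extend (allFrom_extend (allFrom_extend (allFrom_extend (allFrom_extend (allFrom_extend (allFrom_extend (allFrom_extend (allFrom_extend (allFrom_extend (allFrom_extend (allFrom_extend (allFrom_extend (allFrom_extend (allFrom_extend (allFrom_extend (allFrom_extend (allFrom_extend (allFrom_extend (allFrom_extend (allFrom_extend (allFrom_extend (allFrom_extend (allFrom_extend (allFrom_extend (allFrom_extend (allFrom_extend (allFrom_extend (allFrom_extend (allFrom_extend (allFrom_extend (allFrom_extend (allFrom_extend (allFrom_extend (allFrom_extend (allFrom_extend (allFrom_extend (allFrom_extend (allFrom_extend (allFrom_extend (allFrom_extend (allFrom_extend (allFrom_extend (allFrom_extend (allFrom_extend (allFrom_extend (allFrom_extend (allFrom_extend (allFrom_extend (allFrom_extend (allFrom_extend (allFrom_extend (allFrom_extend (allFrom_extend (allFrom_extend (allFrom_extend (allFrom_extend (allFrom_extend (allFrom_extend (allFrom_extend allFrom_nil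
    rowX_0)
    rowX_2000)
    rowX_4000)
    rowX_6000)
    rowX_8000)
    rowX_10000)
    rowX_12000)
    rowX_14000)
    rowX_16000)
    rowX_18000)
    rowX_20000)
    rowX_22000)
    rowX_24000)
    rowX_26000)
    rowX_28000)
    rowX_30000)
    rowX_32000)
    rowX_34000)
    rowX_36000)
    rowX_38000)
    rowX_40000)
    rowX_42000)
    rowX_44000)
    rowX_46000)
    rowX_48000)
    rowX_50000)
    rowX_52000)
    rowX_54000)
    rowX_56000)
    rowX_58000)
    rowX_60000)
    rowX_62000)
    rowX_64000)
    rowX_66000)
    rowX_68000)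
    rowX_70000)
    rowX_72000)
    rowX_74000)
    rowX_76000)
    rowX_78000)
    rowX_80000)
    rowX_82000)
    rowX_84000)
    rowX_86000)
    rowX_88000)
    rowX_90000)
    rowX_92000)
    rowX_94000)
    rowX_96000)
    rowX_98000)
    rowX_100000)
    rowX_102000)
    rowX_104000)
    rowX_106000)
    rowX_108000)
    rowX_110000)
    rowX_112000)
    rowX_114000)
    rowX_116000)
    rowX_118000)
    rowX_120000)
    rowX_122000)

theorem stepsY : ∀ p, p < 122760 → stepY p = true :=
  (allFrom_extend (allFrom_extend (allFrom_extend (allFrom_extend (allFrom_extend (allFrom_extend (allFrom_extend (allFrom_extend (allFrom_extend (allFrom_extend (allFrom_extend (allFrom_extend (allFrom_extend (allFrom_extend (allFrom_extend (allFrom_extend (allFrom_extend (allFrom_extend (allFrom_extend (allFrom_extend (allFrom_extend (allFrom_extend (allFrom_extend (allFrom_extend (allFrom_extend (allFrom_extend (allFrom_extend (allFrom_extend (allFrom_extend (allFrom_extend (allFrom_extend (allFrom_extend (allFrom_extend (allFrom_extend (allFrom_extend (allFrom_extend (allFrom_extend (allFrom_extend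 (allFrom_extend (allFrom_extend (allFrom_extend (allFrom_extend (allFrom_extend (allFrom_extend (allFrom_extend (allFrom_extend (allFrom_extend (allFrom_extend (allFrom_extend (allFrom_extend (allFrom_extend (allFrom_extend (allFrom_extend (allFrom_extend (allFrom_extend (allFrom_extend (allFrom_extend (allFrom_extend (allFrom_extend (allFrom_extend (allFrom_extend (allFrom_extend allFrom_nil
    rowY_0)
    rowY_2000)
    rowY_4000)
    rowY_6000)
    rowY_8000)
    rowY_10000)
    rowY_12000)
    rowY_14000)
    rowY_16000)
    rowY_18000)
    rowY_20000)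
    rowY_22000)
    rowY_24000)
    rowY_26000)
    rowY_28000)
    rowY_30000)
    rowY_32000)
    rowY_34000)
    rowY_36000)
    rowY_38000)
    rowY_40000)
    rowY_42000)
    rowY_44000)
    rowY_46000)
    rowY_48000)
    rowY_50000)
    rowY_52000)
    rowY_54000)
    rowY_56000)
    rowY_58000)
    rowY_60000)
    rowY_62000)
    rowY_64000)
    rowY_66000)
    rowY_68000)
    rowY_70000)
    rowY_72000)
    rowY_74000)
    rowY_76000)
    rowY_78000)
    rowY_80000)
    rowY_82000)
    rowY_84000)
    rowY_86000)
    rowY_88000)
    rowY_90000)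
    rowY_92000)
    rowY_94000)
    rowY_96000)
    rowY_98000)
    rowY_100000)
    rowY_102000)
    rowY_104000)
    rowY_106000)
    rowY_108000)
    rowY_110000)
    rowY_112000)
    rowY_114000)
    rowY_116000)
    rowY_118000)
    rowY_120000)
    rowY_122000)

end Cfsg.Agent.H16.ON7Out
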