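import Cfsg.Prelude.Def_SporCoxeter
import Cfsg.Agent.H16.CosetPres
import Cfsg.Agent.H16.CosetSimple

/-! Groups on three involutions given by words, and homomorphisms out of them. -/

set_option autoImplicit false

namespace Cfsg.Agent.H16

open Cfsg.Spor EnumData CoxEnum

/-- the three letters -/
def gens3 : List (Fin 3) := [0, 1, 2]

/-- a free group generator by number -/
def gv (g : Nat) : FreeGroup (Fin 3) := numGen gens3 FreeGroup.of g

theorem lift_gv {G : Type} [Group G] (f : Fin 3 → G) (w : List Nat) :
    FreeGroup.lift f (ev gv w) = ev (numGen gens3 f) w := by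
  rw [← ev_comp]
  refine congrArg (fun s => ev s w) (funext fun g => ?_)
  simp only [gv, numGen]
  cases gens3[g]? <;> simp

theorem extra_ok3 (D : EnumData) (ws : List (List Nat))
    (h : ws.all (fun w => (D.words.take D.nbase).contains w) = true) :
    List.Forall₂ (fun r w => (D.words.take D.nbase).contains w = true ∧
      ∀ {G : Type} [Group G] (f : Fin 3 → G), (∀ x, f x * f x = 1) →
        FreeGroup.lift f r = ev (numGen gens3 f) w) (ws.map (ev gv)) ws := by
  rw [List.forall₂_map_left_iff, List.forall₂_same]
  exact fun w hw => ⟨List.all_eq_true.mp h w hw, fun f _ => lift_gv f w⟩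

theorem ev_flatMap {G : Type*} [Group G] (val : Nat → G) (Y : Nat → List Nat) : ∀ w : List Nat,
    ev (fun g => ev val (Y g)) w = ev val (w.flatMap Y)
  | [] => rfl
  | g :: w => by rw [ev, List.flatMap_cons, ev_append, ev_flatMap val Y w]

/-- Elements satisfying the base words of a checked presentation satisfy its relators. -/
theorem lift_one_of_presCheck {α : Type} [DecidableEq α] {D : EnumData} {gens : List α}
    {edges : List (α × ℕ × α)} {extra : List (FreeGroup α)} {extraW : List (List Nat)}
    (hP : PresCheck D gens edges extra extraW) {G : Type} [Group G] (f : α → G)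
    (hsq : ∀ x, f x * f x = 1)
    (hbase : ∀ w ∈ D.words.take D.nbase, ev (numGen gens f) w = 1) :
    ∀ r ∈ coxRelators edges ∪ {r | r ∈ extra}, FreeGroup.lift f r = 1 := by
  rintro r (⟨x, hx, y, hy, rfl⟩ | hr)
  · rw [map_pow, map_mul, FreeGroup.lift_apply_of, FreeGroup.lift_apply_of,
      ← ev_pairWord (gens := gens) (edges := edges) f (hP.mem_nodes x).1 (hP.mem_nodes y).1]
    rcases hP.pairs_ok x hx y hy with h | h
    · exact hbase _ (List.contains_iff_mem.mp h)
    · have h1 := hbase _ (List.contains_iff_mem.mp h)
      rwa [ev_reverse _ (numGen_sq f hsq), inv_eq_one] at h1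
  · obtain ⟨i, hi, rfl⟩ := List.mem_iff_getElem.mp hr
    have h := hP.extra_ok.get (i := i) hi (hP.extra_ok.length_eq ▸ hi)
    simp only [List.get_eq_getElem] at h
    rw [h.2 f hsq]
    exact hbase _ (List.contains_iff_mem.mp h.1)

end Cfsg.Agent.H16
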