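import Cfsg.Prelude.Def_KGroupFacts
import Cfsg.Agent.H16.ON7OutSteps
import Cfsg.Agent.H16.ON7Iso
import Cfsg.Agent.H16.ON7SubLib

/-!
The outer automorphism group of the O'Nan group has order two.  An automorphism is reduced by inner
ones and one outer automorphism to one fixing an element of order 31; the centralisers of this element
and of one of order 5 then show that it is inner.
-/

set_option autoImplicit false
set_option maxRecDepth 20000

namespace Cfsg.Agent.H16.ON7Out

open Cfsg.Spor EnumData CoxEnum

/-- points of a base -/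
abbrev bptsA : List Nat := [0, 1, 45310]

/-- words with the same images on a base -/
noncomputable def sameW (u v : List Nat) : Bool :=
  okW u && okW v && natListEq (imgs u bptsA) (imgs v bptsA)

theorem checkA : ON7H.data.checkLevels baseA [] = true := by
  have h2 : ON7H.data.checkLevel [1, 0] levelA = true := by decide +kernel
  simp only [checkLevels, baseA, Bool.and_true, Bool.and_eq_true]
  exact ⟨ON7H.base_level0, ON7H.base_level1, h2⟩

theorem checkY : ON7H.data.checkLevels baseY [] = true := by
  have h2 : ON7H.data.checkLevel [1, 0] levelY = true := by decide +kernel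
  have h3 : ON7H.data.checkLevel [86, 1, 0] ON7H.baseLevel3 = true := by decide +kernel
  simp only [checkLevels, baseY, Bool.and_true, Bool.and_eq_true]
  exact ⟨ON7H.base_level0, ON7H.base_level1, h2, h3⟩

theorem cardA : Nat.card (ON7H.theModel.fixer []) ≤ levelsProd baseA := by
  rw [show levelsProd baseA = 460815505920 by decide +kernel]
  exact card_fixer_nil

theorem cardY : Nat.card (ON7H.theModel.fixer []) ≤ levelsProd baseY := by
  rw [show levelsProd baseY = 460815505920 by decide +kernel]
  exact card_fixer_nil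

theorem eq_of_act {g h : Gp} (e : act g = act h) : g = h := ON7Order.card_and_faithful.2 e

theorem eq_one_of_fixes {g : Gp} (h : Fixes g [45310, 1, 0]) : g = 1 := by
  have hc := checkA
  have e0 := (exact_level hc cardA).1
  simp only [checkLevels, baseA, Bool.and_true, Bool.and_eq_true] at hc
  obtain ⟨-, h1, h2⟩ := hc
  have e1 := (exact_level (L := ON7H.baseLevel1) (rest := [levelA])
    (by simp only [checkLevels, Bool.and_true, Bool.and_eq_true]; exact ⟨h1, h2⟩) e0).1
  have e2 := (exact_level (L := levelA) (rest := [])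
    (by simp only [checkLevels, Bool.and_true]; exact h2) e1).1
  have : Subsingleton (ON7H.theModel.fixer [45310, 1, 0]) :=
    Finite.card_le_one_iff_subsingleton.mp e2
  refine eq_of_act ?_
  rw [map_one]
  exact congrArg Subtype.val
    (Subsingleton.elim (⟨_, mem_fixer h⟩ : ON7H.theModel.fixer [45310, 1, 0]) 1)

theorem eq_one_or_f {g : Gp} (h : Fixes g [86, 1, 0]) : g = 1 ∨ g = el [5] := by
  have hc := checkY
  have e0 := (exact_level hc cardY).1
  simp only [checkLevels, baseY, Bool.and_true, Bool.and_eq_true] at hc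
  obtain ⟨-, h1, h2, h3⟩ := hc
  have e1 := (exact_level (L := ON7H.baseLevel1) (rest := [levelY, ON7H.baseLevel3])
    (by simp only [checkLevels, Bool.and_true, Bool.and_eq_true]; exact ⟨h1, h2, h3⟩) e0).1
  have e2 := (exact_level (L := levelY) (rest := [ON7H.baseLevel3])
    (by simp only [checkLevels, Bool.and_true, Bool.and_eq_true]; exact ⟨h2, h3⟩) e1).1
  have hcard : Nat.card (ON7H.theModel.fixer [86, 1, 0]) ≤ 2 :=
    e2.trans (le_of_eq (by decide +kernel))
  have hf : Fixes (el [5]) [86, 1, 0] := fun x hx hn => by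
    rw [pimg_el (by decide) hn]
    have : ∀ x ∈ [86, 1, 0], runW [5] x = x := by decide +kernel
    exact this x hx
  by_contra hne
  push_neg at hne
  have hf1 : el [5] ≠ 1 := fun e => by
    have h' := congrArg (fun u => pimg u 5) e
    simp only [pimg_one] at h'
    rw [pimg_el (by decide) (by decide)] at h'
    exact absurd h' (by decide +kernel)
  let emb : Fin 3 → ON7H.theModel.fixer [86, 1, 0] :=
    ![1, ⟨_, mem_fixer hf⟩, ⟨_, mem_fixer h⟩]
  have hinj : Function.Injective emb := by
    intro i j hij
    have hv := congrArg Subtype.val hij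
    fin_cases i <;> fin_cases j <;> simp [emb] at hv <;>
      first
        | rfl
        | exact absurd (eq_of_act (hv.trans (map_one act).symm)) hf1
        | exact absurd (eq_of_act (hv.trans (map_one act).symm)) hne.1
        | exact absurd (eq_of_act (hv.symm.trans (map_one act).symm)) hf1
        | exact absurd (eq_of_act (hv.symm.trans (map_one act).symm)) hne.1
        | exact absurd (eq_of_act hv) hne.2
        | exact absurd (eq_of_act hv.symm) hne.2
  have := Nat.card_le_card_of_injective emb hinj
  simp only [Nat.card_eq_fintype_card, Fintype.card_fin] at this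
  have h3' : (3 : Nat) ≤ 2 := le_trans (by simpa using Nat.card_le_card_of_injective emb hinj) hcard
  omega

theorem eq_of_base {g h : Gp} (e : ∀ b ∈ bptsA, pimg g b = pimg h b) : g = h := by
  have hb : ∀ b ∈ bptsA, b < nn := by
    intro b hb
    have : ∀ b ∈ bptsA, b < 122760 := by decide
    exact this b hb
  have h1 : h⁻¹ * g = 1 := eq_one_of_fixes fun x hx _ => by
    have hx' : x ∈ bptsA := by
      simp only [List.mem_cons, List.not_mem_nil, or_false] at hx ⊢
      rcases hx with rfl | rfl | rfl <;> simp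
    rw [pimg_mul, e x hx', ← pimg_mul, inv_mul_cancel, pimg_one]
  rwa [inv_mul_eq_one, eq_comm] at h1

theorem el_eq {u v : List Nat} (h : sameW u v = true) : el u = el v := by
  rw [sameW, Bool.and_eq_true, Bool.and_eq_true] at h
  have hl := List.map_inj_left.mp (natListEq_eq h.2)
  refine eq_of_base fun b hb => ?_
  have hb' : b < nn := by
    have : ∀ b ∈ bptsA, b < 122760 := by decide
    exact this b hb
  rw [pimg_el h.1.1 hb', pimg_el h.1.2 hb', hl b hb]

theorem el_pow (w : List Nat) : ∀ k : ℕ, el (List.replicate k w).flatten = el w ^ k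
  | 0 => by simp [el, ev]
  | k + 1 => by rw [List.replicate_succ, List.flatten_cons, el_append, el_pow w k, pow_succ]

/-- element of order 31 with small base images -/
noncomputable def eX : Gp := el wX
/-- element of order 5 -/
noncomputable def eY : Gp := el wY
/-- conjugator -/
noncomputable def eQ : Gp := el wQ
/-- element of order 31 -/
noncomputable def eP : Gp := el wXp
/-- element of order 15 normalising it -/
noncomputable def eM : Gp := el wM
/-- conjugator for the outer automorphism -/
noncomputable def eD : Gp := el wD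

theorem p_conj : eP = eQ⁻¹ * eX * eQ := by
  have h := el_eq (u := wXp) (v := wQ ++ wX ++ wQ.reverse) (by decide +kernel)
  rw [el_append, el_append, el_reverse, ← mul_assoc] at h
  exact h

theorem x_pow31 : eX ^ 31 = 1 := by
  rw [eX, ← el_pow]
  exact el_eq (v := []) (by decide +kernel)

theorem x_ne : eX ≠ 1 := fun h => by
  have h' := congrArg (fun u => pimg u 0) h
  simp only [pimg_one] at h'
  rw [eX, pimg_el (by decide +kernel) (by decide)] at h'
  exact absurd h' (by decide +kernel)

theorem p_pow31 : eP ^ 31 = 1 := by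
  have h := conj_pow (i := 31) (a := eQ⁻¹) (b := eX)
  rw [inv_inv, x_pow31, mul_one, inv_mul_cancel, ← p_conj] at h
  exact h

theorem orderOf_p : orderOf eP = 31 := by
  have : Fact (Nat.Prime 31) := ⟨by norm_num⟩
  refine orderOf_eq_prime p_pow31 fun h => x_ne ?_
  rw [p_conj, mul_assoc, inv_mul_eq_one] at h
  exact mul_eq_right.mp h.symm

theorem m_cube : eM ^ 3 = eY := by
  rw [eM, ← el_pow]
  exact el_eq (v := wY) (by decide +kernel)

theorem m_conj : eM * eP = eP ^ 7 * eM := by
  have h := el_eq (u := wXp ++ wM) (v := wM ++ (List.replicate 7 wXp).flatten) (by decide +kernel)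
  rw [el_append, el_append, el_pow] at h
  exact h

theorem m_conj9 : eP * eM = eM * eP ^ 9 := by
  have h : SemiconjBy eM eP (eP ^ 7) := m_conj
  have h9 := h.pow_right 9
  rw [← pow_mul, pow_eq_pow_mod (n := 31) (7 * 9) p_pow31, show 7 * 9 % 31 = 1 from rfl, pow_one] at h9
  exact h9.eq.symm

/-! ### Centraliser of the element of order 31 -/

theorem okX : okW wX = true ∧ okW wX.reverse = true ∧ okW (wX ++ wX ++ wX ++ wX) = true := by
  decide +kernel

theorem comm_x {g : Gp} (hg : Commute g eX) : g ∈ Subgroup.zpowers eX := by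
  refine of_cycles (S := fun g => g ∈ Subgroup.zpowers eX) okX.2.1 stepsX
    (fun s hs => mul_mem (Subgroup.mem_zpowers _) hs) ?_ g hg
  intro p hp hrow g hg hgp
  have h1 : pimg g 1 = runW wX p := by
    have e : runW wX 0 = 1 := by decide +kernel
    rw [← e, ← pimg_el okX.1 ON7H.valid.pos, ← pimg_mul, hg.eq, pimg_mul, hgp, pimg_el okX.1 hp]
  have h2 : pimg g 45310 = runW (wX ++ wX ++ wX ++ wX) p := by
    have e : runW (wX ++ wX ++ wX ++ wX) 0 = 45310 := by decide +kernel
    have hc : Commute g (el (wX ++ wX ++ wX ++ wX)) := by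
      rw [el_append, el_append, el_append]
      exact hg.mul_right (hg.mul_right (hg.mul_right hg))
    rw [← e, ← pimg_el okX.2.2 ON7H.valid.pos, ← pimg_mul, hc.eq, pimg_mul, hgp,
      pimg_el okX.2.2 hp]
  rw [rowX, Bool.or_eq_true] at hrow
  rcases hrow with hrow | hrow
  · have hp0 : p = 0 := Nat.eq_of_beq_eq_true hrow
    subst hp0
    have hg1 : g = 1 := eq_of_base fun b hb => by
      rw [pimg_one]
      simp only [List.mem_cons, List.not_mem_nil, or_false] at hb
      rcases hb with rfl | rfl | rfl
      · exact hgp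
      · rw [h1]; decide +kernel
      · rw [h2]; decide +kernel
    show g ∈ Subgroup.zpowers eX
    rw [hg1]
    exact one_mem _
  · exfalso
    refine not_matches_of_siftFail baseA [] _ checkA cardA hrow ?_ g
      (fun x hx => absurd hx List.not_mem_nil) ⟨hgp, h1, h2, trivial⟩
    intro q hq
    simp only [List.mem_cons, List.not_mem_nil, or_false] at hq
    rcases hq with rfl | rfl | rfl
    exacts [hp, runW_lt okX.1 hp, runW_lt okX.2.2 hp]

theorem comm_p {g : Gp} (hg : Commute g eP) : ∃ j : ℕ, g = eP ^ j := by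
  have h1 : Commute (eQ * g * eQ⁻¹) eX := by
    have e : eX = eQ * eP * eQ⁻¹ := by rw [p_conj]; group
    rw [e]
    show eQ * g * eQ⁻¹ * (eQ * eP * eQ⁻¹) = eQ * eP * eQ⁻¹ * (eQ * g * eQ⁻¹)
    have hg' := hg.eq
    calc eQ * g * eQ⁻¹ * (eQ * eP * eQ⁻¹) = eQ * (g * eP) * eQ⁻¹ := by group
      _ = eQ * (eP * g) * eQ⁻¹ := by rw [hg']
      _ = eQ * eP * eQ⁻¹ * (eQ * g * eQ⁻¹) := by group
  obtain ⟨j, hj⟩ := mem_powers_iff_mem_zpowers.mpr (comm_x h1)
  refine ⟨j, ?_⟩
  have h := conj_pow (i := j) (a := eQ⁻¹) (b := eX)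
  rw [inv_inv, ← p_conj] at h
  dsimp only at hj
  rw [hj] at h
  rw [h]
  group

/-! ### Centraliser of the element of order 5 -/

theorem okY : okW wY = true ∧ okW wY.reverse = true ∧ cyWords.all okW = true := by decide +kernel

theorem ok_cy (k : Nat) : okW (cyW k) = true := by
  by_cases hk : k < cyWords.length
  · rw [cyW, nthWord, List.getD_eq_getElem _ _ hk]
    exact List.all_eq_true.mp okY.2.2 _ (List.getElem_mem _)
  · rw [cyW, nthWord, List.getD_eq_default _ _ (by omega)]
    rfl

/-- the companions of the solutions -/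
abbrev solsU : List Nat :=
  [1, 5, 21, 23, 25, 27, 29, 33, 35, 37, 41, 45, 47, 49, 51, 57, 65, 109]

theorem sols_ok : ∀ i, i < 18 →
    (sameW ([5] ++ cyW (solsY.getD i (0, 0)).2) (cyW (solsU.getD i 0)) &&
      Nat.ble (Nat.succ (solsU.getD i 0)) 180) = true ∨
    (!natListEq (imgs (wY ++ ([5] ++ cyW (solsY.getD i (0, 0)).2)) bptsA)
      (imgs (([5] ++ cyW (solsY.getD i (0, 0)).2) ++ wY) bptsA)) = true := by decide +kernel

theorem succ_ok : ∀ k, k < 180 →
    (sameW (cyW k ++ wY) (cyW (ySucc.getD k 0)) && Nat.ble (Nat.succ (ySucc.getD k 0)) 180) = true :=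
  fun k hk => allFrom_spec (p := fun k => sameW (cyW k ++ wY) (cyW (ySucc.getD k 0)) &&
    Nat.ble (Nat.succ (ySucc.getD k 0)) 180) (n := 180) (lo := 0) (by decide +kernel) k
    (Nat.zero_le k) (by omega)

theorem okW_append {u v : List Nat} (hu : okW u = true) (hv : okW v = true) :
    okW (u ++ v) = true :=
  okW_of fun g hg => by
    rcases List.mem_append.mp hg with hg | hg
    · exact okW_spec hu g hg
    · exact okW_spec hv g hg

theorem comm_y {g : Gp} (hg : Commute g eY) : ∃ k, k < 180 ∧ g = el (cyW k) := by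
  refine of_cycles (S := fun g => ∃ k, k < 180 ∧ g = el (cyW k)) okY.2.1 stepsY ?_ ?_ g hg
  · rintro s ⟨k, hk, rfl⟩
    have h := succ_ok k hk
    rw [Bool.and_eq_true] at h
    exact ⟨_, Nat.le_of_ble_eq_true h.2, by rw [← el_eq h.1, el_append]⟩
  intro p hp hrow g hg hgp
  have h1 : pimg g 1 = runW wY p := by
    have e : runW wY 0 = 1 := by decide +kernel
    rw [← e, ← pimg_el okY.1 ON7H.valid.pos, ← pimg_mul, hg.eq, pimg_mul, hgp, pimg_el okY.1 hp]
  have h2 : pimg g 86 = runW wY (runW wY p) := by
    have e : runW wY 1 = 86 := by decide +kernel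
    rw [← e, ← pimg_el okY.1 (by decide), ← pimg_mul, hg.eq, pimg_mul, h1,
      pimg_el okY.1 (runW_lt okY.1 hp)]
  rw [rowY, forceNat_eq, Bool.or_eq_true] at hrow
  rcases hrow with hrow | hrow
  · exfalso
    refine not_matches_of_siftFail baseY [] _ checkY cardY hrow ?_ g
      (fun x hx => absurd hx List.not_mem_nil) ⟨hgp, h1, h2, trivial⟩
    intro q hq
    simp only [List.mem_cons, List.not_mem_nil, or_false] at hq
    rcases hq with rfl | rfl | rfl
    exacts [hp, runW_lt okY.1 hp, runW_lt okY.1 (runW_lt okY.1 hp)]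
  · obtain ⟨e, he, hee⟩ := List.any_eq_true.mp hrow
    simp only [Bool.and_eq_true] at hee
    obtain ⟨-, hk, himg⟩ := hee
    have hL := natListEq_eq himg
    simp only [imgs, List.map_cons, List.map_nil, List.cons.injEq, and_true] at hL
    obtain ⟨l0, l1, l2⟩ := hL
    have hok := ok_cy e.2
    have hfix : Fixes ((el (cyW e.2))⁻¹ * g) [86, 1, 0] := fun x hx hn => by
      have hx' : pimg g x = pimg (el (cyW e.2)) x := by
        rw [pimg_el hok hn]
        simp only [List.mem_cons, List.not_mem_nil, or_false] at hx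
        rcases hx with rfl | rfl | rfl
        · rw [h2, l2]
        · rw [h1, l1]
        · rw [hgp, l0]
      rw [pimg_mul, hx', ← pimg_mul, inv_mul_cancel, pimg_one]
    rcases eq_one_or_f hfix with h | h
    · exact ⟨e.2, Nat.le_of_ble_eq_true hk, (inv_mul_eq_one.mp h).symm⟩
    · have hgu : g = el ([5] ++ cyW e.2) := by rw [el_append, ← h, mul_inv_cancel_left]
      obtain ⟨i, hi, hie⟩ := List.getElem_of_mem he
      have hlen : solsY.length = 18 := by decide +kernel
      have hs := sols_ok i (hlen ▸ hi)
      rw [List.getD_eq_getElem _ _ hi, hie] at hs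
      rcases hs with hs | hs
      · rw [Bool.and_eq_true] at hs
        exact ⟨_, Nat.le_of_ble_eq_true hs.2, hgu.trans (el_eq hs.1)⟩
      · exfalso
        have hoku : okW ([5] ++ cyW e.2) = true := okW_append (by decide) hok
        have heq : el (wY ++ ([5] ++ cyW e.2)) = el (([5] ++ cyW e.2) ++ wY) := by
          rw [el_append wY, el_append _ wY, ← hgu]
          exact hg.eq
        have : imgs (wY ++ ([5] ++ cyW e.2)) bptsA = imgs (([5] ++ cyW e.2) ++ wY) bptsA := by
          refine List.map_congr_left fun b hb => ?_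
          have hb' : b < nn := by
            have : ∀ b ∈ bptsA, b < 122760 := by decide
            exact this b hb
          rw [← pimg_el (okW_append okY.1 hoku) hb', heq, pimg_el (okW_append hoku okY.1) hb']
        rw [this] at hs
        have hr : ∀ l : List Nat, natListEq l l = true := by
          intro l
          induction l with
          | nil => rfl
          | cons a l ih =>
            show (Nat.beq a a && natListEq l l) = true
            simp [ih]
        rw [hr] at hs
        exact Bool.noConfusion hs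

/-! ### Words in the three elements -/

/-- word of a symbol -/
noncomputable def symW (zw : List Nat) (c : Nat) : List Nat :=
  [wXp, wM, zw, wXp.reverse, wM.reverse, zw.reverse, [1], [2], [4], [6]].getD c []

/-- run of a word in words -/
noncomputable def runSyms (S : Nat → List Nat) (u : List Nat) : Nat → Nat :=
  List.rec (motive := fun _ => Nat → Nat) (fun i => i)
    (fun c _ ih i => forceNat i fun i => ih (runW (S c) i)) u

theorem pimg_syms {S : Nat → List Nat} : ∀ {u : List Nat}, u.all (fun c => okW (S c)) = true →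
    ∀ {b : Nat}, b < nn → pimg (ev (fun c => el (S c)) u) b = runSyms S u b
  | [], _, b, _ => by simp [ev, runSyms]
  | c :: u, h, b, hb => by
    rw [List.all_cons, Bool.and_eq_true] at h
    rw [ev, pimg_mul, pimg_el h.1 hb, pimg_syms h.2 (runW_lt h.1 hb)]
    show _ = forceNat b fun i => runSyms S u (runW (S c) i)
    rw [forceNat_eq]

theorem ev_congr {G : Type*} [Group G] {s t : Nat → G} : ∀ {u : List Nat},
    (∀ c ∈ u, s c = t c) → ev s u = ev t u
  | [], _ => rfl
  | c :: u, h => by
    rw [ev, ev, h c (List.mem_cons_self ..), ev_congr fun d hd => h d (List.mem_cons_of_mem _ hd)]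

/-- the syms product fixes the base -/
noncomputable def symsFix (S : Nat → List Nat) (u : List Nat) : Bool :=
  u.all (fun c => okW (S c)) && bptsA.all (fun b => Nat.beq (runSyms S u b) b)

theorem ev_of_symsFix {S : Nat → List Nat} {u : List Nat} (h : symsFix S u = true) :
    ev (fun c => el (S c)) u = 1 := by
  rw [symsFix, Bool.and_eq_true, List.all_eq_true (l := bptsA)] at h
  refine eq_of_base fun b hb => ?_
  have hb' : b < nn := by
    have : ∀ b ∈ bptsA, b < 122760 := by decide
    exact this b hb
  rw [pimg_syms h.1 hb', pimg_one]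
  exact Nat.eq_of_beq_eq_true (h.2 b hb)

/-- the syms product is a generator -/
noncomputable def symsGen (S : Nat → List Nat) (g : Nat) (u : List Nat) : Bool :=
  Nat.ble (Nat.succ g) 7 && u.all (fun c => okW (S c)) &&
    bptsA.all (fun b => Nat.beq (runSyms S u b) (runW [g] b))

theorem ev_of_symsGen {S : Nat → List Nat} {g : Nat} {u : List Nat} (h : symsGen S g u = true) :
    ev (fun c => el (S c)) u = el [g] := by
  rw [symsGen, Bool.and_eq_true, Bool.and_eq_true, List.all_eq_true (l := bptsA)] at h
  refine eq_of_base fun b hb => ?_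
  have hb' : b < nn := by
    have : ∀ b ∈ bptsA, b < 122760 := by decide
    exact this b hb
  rw [pimg_syms h.1.2 hb', pimg_el (okW_of fun x hx => ?_) hb']
  · exact Nat.eq_of_beq_eq_true (h.2 b hb)
  · rw [List.mem_singleton.mp hx]; exact Nat.le_of_ble_eq_true h.1.1

/-- the element completing the generating triple -/
noncomputable def zW : List Nat := cyW zIdx

/-- the relation assigned to entry `k` -/
noncomputable def relOf (k : Nat) : List Nat :=
  (List.replicate (relList.getD (relIdx.getD k 0) (0, [])).1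
    (relList.getD (relIdx.getD k 0) (0, [])).2).flatten

theorem rels_z : allFrom (fun k => symsFix (symW zW) (relOf k) &&
    (relOf k).all (fun c => Nat.ble (Nat.succ c) 6)) 180 0 = true := by decide +kernel

theorem rels_other : allFrom (fun k => sameW (cyW k) zW ||
    !(Nat.beq (runSyms (symW (cyW k)) (relOf k) 0) 0 &&
      Nat.beq (runSyms (symW (cyW k)) (relOf k) 1) 1 &&
      Nat.beq (runSyms (symW (cyW k)) (relOf k) 45310) 45310)) 180 0 = true := by decide +kernel

theorem okSym {zw : List Nat} (hz : okW zw = true) (c : Nat) : okW (symW zw c) = true := by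
  have h : okW wXp = true ∧ okW wM = true ∧ okW wXp.reverse = true ∧ okW wM.reverse = true := by
    decide +kernel
  have hzr : okW zw.reverse = true := okW_of fun g hg => okW_spec hz g (List.mem_reverse.mp hg)
  match c with
  | 0 => exact h.1
  | 1 => exact h.2.1
  | 2 => exact hz
  | 3 => exact h.2.2.1
  | 4 => exact h.2.2.2
  | 5 => exact hzr
  | 6 => rfl
  | 7 => rfl
  | 8 => rfl
  | 9 => rfl
  | n + 10 => rfl

theorem el_symW (φ : Gp ≃* Gp) (hp : φ eP = eP) (hm : φ eM = eM) {zw zw' : List Nat}
    (hz : φ (el zw) = el zw') {c : Nat} (hc : c < 6) :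
    φ (el (symW zw c)) = el (symW zw' c) := by
  interval_cases c
  · exact hp
  · exact hm
  · exact hz
  · show φ (el wXp.reverse) = el wXp.reverse
    rw [el_reverse, map_inv]; exact congrArg (·⁻¹) hp
  · show φ (el wM.reverse) = el wM.reverse
    rw [el_reverse, map_inv]; exact congrArg (·⁻¹) hm
  · show φ (el zw.reverse) = el zw'.reverse
    rw [el_reverse, el_reverse, map_inv, hz]

theorem fix_all (φ : Gp ≃* Gp) (hp : φ eP = eP) (hm : φ eM = eM) : ∀ g, φ g = g := by
  have hy : φ eY = eY := by rw [← m_cube, map_pow, hm]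
  have hzy : Commute (el zW) eY := by
    have h := el_eq (u := zW ++ wY) (v := wY ++ zW) (by decide +kernel)
    rw [el_append, el_append] at h
    exact h.symm
  have hzy' : Commute (φ (el zW)) eY := by
    have := hzy.map φ
    rwa [hy] at this
  obtain ⟨k, hk, hkz⟩ := comm_y hzy'
  have hz : φ (el zW) = el zW := by
    rw [hkz]
    have h := allFrom_spec rels_other k (Nat.zero_le k) (by omega)
    rw [Bool.or_eq_true] at h
    rcases h with h | h
    · exact el_eq h
    · exfalso
      have h1 := allFrom_spec rels_z k (Nat.zero_le k) (by omega)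
      rw [Bool.and_eq_true] at h1
      have e1 := congrArg φ (ev_of_symsFix h1.1)
      rw [map_one, ← MulEquiv.coe_toMonoidHom φ, ← ev_comp, MulEquiv.coe_toMonoidHom φ, ev_congr (t := fun c => el (symW (cyW k) c)) fun c hc =>
        el_symW φ hp hm hkz (Nat.le_of_ble_eq_true (List.all_eq_true.mp h1.2 c hc))] at e1
      have hall : (relOf k).all (fun c => okW (symW (cyW k) c)) = true :=
        List.all_eq_true.mpr fun c _ => okSym (ok_cy k) c
      have e2 : ∀ b, b < nn → runSyms (symW (cyW k)) (relOf k) b = b := fun b hb => by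
        rw [← pimg_syms hall hb, e1, pimg_one]
      rw [e2 0 (by decide), e2 1 (by decide), e2 45310 (by decide)] at h
      simp at h
  have hg1 : ∀ e ∈ genSyms, φ (el [e.1]) = el [e.1] := by
    intro e he
    have h : genSyms.all (fun e => symsGen (symW zW) e.1 e.2 &&
        e.2.all (fun c => Nat.ble (Nat.succ c) 6)) = true := by decide +kernel
    have h' := List.all_eq_true.mp h e he
    rw [Bool.and_eq_true] at h'
    rw [← ev_of_symsGen h'.1, ← MulEquiv.coe_toMonoidHom φ, ← ev_comp]
    exact ev_congr fun c hc =>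
      el_symW φ hp hm hz (Nat.le_of_ble_eq_true (List.all_eq_true.mp h'.2 c hc))
  have hg2 : ∀ e ∈ genSyms2, φ (el [e.1]) = el [e.1] := by
    intro e he
    have h : genSyms2.all (fun e => symsGen (symW zW) e.1 e.2 &&
        e.2.all (fun c => Nat.ble (Nat.succ c) 10)) = true := by decide +kernel
    have h' := List.all_eq_true.mp h e he
    rw [Bool.and_eq_true] at h'
    rw [← ev_of_symsGen h'.1, ← MulEquiv.coe_toMonoidHom φ, ← ev_comp]
    refine ev_congr fun c hc => ?_
    have hc10 := Nat.le_of_ble_eq_true (List.all_eq_true.mp h'.2 c hc)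
    by_cases hc6 : c < 6
    · exact el_symW φ hp hm hz hc6
    · have hh : ∀ g ∈ [1, 2, 4, 6], φ (el [g]) = el [g] := by
        intro g hg
        have : ∀ g ∈ [1, 2, 4, 6], ∃ e ∈ genSyms, e.1 = g := by decide +kernel
        obtain ⟨e, he, rfl⟩ := this g hg
        exact hg1 e he
      have hc' : c = 6 ∨ c = 7 ∨ c = 8 ∨ c = 9 := by omega
      rcases hc' with rfl | rfl | rfl | rfl
      exacts [hh 1 (by simp), hh 2 (by simp), hh 4 (by simp), hh 6 (by simp)]
  intro g
  have hgen : ∀ i, i < 7 → φ (el [i]) = el [i] := by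
    intro i hi
    have : ∀ i, i < 7 → (∃ e ∈ genSyms, e.1 = i) ∨ ∃ e ∈ genSyms2, e.1 = i := by decide +kernel
    rcases this i hi with ⟨e, he, rfl⟩ | ⟨e, he, rfl⟩
    exacts [hg1 e he, hg2 e he]
  have hcl : g ∈ Subgroup.closure (Set.range ON7H.val) := by
    rw [ON7H.theModel.gen_closure]; trivial
  induction hcl using Subgroup.closure_induction with
  | mem x hx =>
    obtain ⟨i, rfl⟩ := hx
    by_cases hi : i < 7
    · have := hgen i hi
      simpa [el, ev] using this
    · rw [ON7H.theModel.outside i (show ON7H.data.ng ≤ i by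
        have : ON7H.data.ng = 7 := rfl
        omega), map_one]
  | one => exact map_one φ
  | mul a b _ _ ha hb => rw [map_mul, ha, hb]
  | inv a _ ha => rw [map_inv, ha]

theorem inner_of_fix (φ : MulAut Gp) (hp : φ eP = eP) : φ ∈ Cfsg.Inn Gp := by
  have hc : Commute (eM⁻¹ * φ eM) eP := by
    have h := congrArg φ m_conj
    rw [map_mul, map_mul, map_pow, hp] at h
    have h2 : eM⁻¹ * eP ^ 7 = eP * eM⁻¹ := by
      rw [inv_mul_eq_iff_eq_mul, ← mul_assoc, m_conj, mul_inv_cancel_right]
    show eM⁻¹ * φ eM * eP = eP * (eM⁻¹ * φ eM)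
    rw [mul_assoc, h, ← mul_assoc, h2, mul_assoc]
  obtain ⟨j, hj⟩ := comm_p hc
  rw [inv_mul_eq_iff_eq_mul] at hj
  have key : MulAut.conj (eP ^ (27 * j)) (φ eM) = eM := by
    rw [MulAut.conj_apply, hj]
    have hs : SemiconjBy eM (eP ^ 9) eP := m_conj9.symm
    have h9 := (hs.pow_right (27 * j)).eq
    rw [← pow_mul] at h9
    rw [mul_inv_eq_iff_eq_mul, ← mul_assoc, ← h9, mul_assoc, ← pow_add]
    congr 1
    rw [pow_eq_pow_mod (n := 31) _ p_pow31, pow_eq_pow_mod (n := 31) (27 * j) p_pow31]
    congr 1
    omega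
  have hp' : MulAut.conj (eP ^ (27 * j)) (φ eP) = eP := by
    rw [hp, MulAut.conj_apply, mul_inv_eq_iff_eq_mul, ← pow_succ, ← pow_succ']
  have hid := fix_all (MulAut.conj (eP ^ (27 * j)) * φ : MulAut Gp) hp' key
  have : MulAut.conj (eP ^ (27 * j)) * φ = 1 := MulEquiv.ext hid
  rw [mul_eq_one_iff_inv_eq, ← map_inv] at this
  exact ⟨_, this⟩

/-! ### The outer automorphism -/

/-- image word of a generator -/
noncomputable def tauW (g : Nat) : List Nat := nthWord tauWords g

/-- image of a generator -/
noncomputable def tauF (x : ON7.Gen) : Gp := el (tauW (ON7H.gens.idxOf x))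

theorem ok_tau (g : Nat) : okW (tauW g) = true := by
  have h : tauWords.all okW = true := by decide +kernel
  by_cases hk : g < tauWords.length
  · rw [tauW, nthWord, List.getD_eq_getElem _ _ hk]
    exact List.all_eq_true.mp h _ (List.getElem_mem _)
  · rw [tauW, nthWord, List.getD_eq_default _ _ (by omega)]
    rfl

theorem numGen_tau : numGen ON7H.gens tauF = fun g => el (tauW g) := by
  funext g
  by_cases hg : g < 7
  · interval_cases g <;> rfl
  · have h1 : ON7H.gens[g]? = none := List.getElem?_eq_none (by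
      show 7 ≤ g
      omega)
    have h2 : tauW g = [] := by
      rw [tauW, nthWord, List.getD_eq_default _ _ (by
        have : tauWords.length = 7 := by decide +kernel
        omega)]
    simp only [numGen, h1, h2]
    rfl

theorem tau_sq (g : Nat) : el (tauW g) * el (tauW g) = 1 := by
  by_cases hg : g < 7
  · have h : ∀ g, g < 7 → sameW (tauW g ++ tauW g) [] = true := by decide +kernel
    rw [← el_append]
    exact el_eq (h g hg)
  · have : tauW g = [] := by
      rw [tauW, nthWord, List.getD_eq_default _ _ (by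
        have : tauWords.length = 7 := by decide +kernel
        omega)]
    rw [this]
    exact one_mul _

theorem tau_rels : ∀ r ∈ coxRelators ON7.edges ∪ {r | r ∈ ON7.extra},
    FreeGroup.lift tauF r = 1 := by
  refine lift_one_of_presCheck ON7H.presCheck tauF (fun x => tau_sq _) ?_
  intro w hw
  rw [numGen_tau]
  have h : (ON7H.data.words.take ON7H.data.nbase).all (fun w => symsFix tauW w) = true := by
    decide +kernel
  exact ev_of_symsFix (List.all_eq_true.mp h w hw)

/-- the endomorphism -/
noncomputable def tauHom : Gp →* Gp := PresentedGroup.toGroup tau_rels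

theorem tauHom_val (g : Nat) : tauHom (ON7H.val g) = el (tauW g) := by
  have h := congrFun numGen_tau g
  rw [← h, ON7H.val]
  unfold numGen
  cases ON7H.gens[g]? with
  | none => exact map_one _
  | some x => exact PresentedGroup.toGroup.of tau_rels

theorem tauHom_el (w : List Nat) : tauHom (el w) = ev (fun g => el (tauW g)) w := by
  rw [el, ← ev_comp]
  exact ev_congr fun g _ => tauHom_val g

theorem tauHom_inj : Function.Injective tauHom := by
  haveI := ON7Order.isSimple
  rcases tauHom.normal_ker.eq_bot_or_eq_top with h | h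
  · exact (MonoidHom.ker_eq_bot_iff tauHom).mp h
  · exfalso
    have hker : ON7H.val 0 ∈ tauHom.ker := h ▸ Subgroup.mem_top _
    rw [MonoidHom.mem_ker, tauHom_val] at hker
    have h' := congrArg (fun u => pimg u 2) hker
    simp only [pimg_one] at h'
    rw [pimg_el (ok_tau 0) (by decide)] at h'
    exact absurd h' (by decide +kernel)

/-- the outer automorphism -/
noncomputable def tau : MulAut Gp :=
  MulEquiv.ofBijective tauHom ⟨tauHom_inj, Finite.injective_iff_surjective.mp tauHom_inj⟩

theorem tau_apply (g : Gp) : tau g = tauHom g := rfl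

/-- some image of the subgroup generators moves each point -/
noncomputable def moved (p : Nat) : Bool :=
  !(Nat.beq (runW (tauW 0) p) p) || !(Nat.beq (runW (tauW 1) p) p) ||
  !(Nat.beq (runW (tauW 2) p) p) || !(Nat.beq (runW (tauW 3) p) p) ||
  !(Nat.beq (runW (tauW 4) p) p) || !(Nat.beq (runW (tauW 5) p) p)

theorem moved_all : allFrom moved 122760 0 = true := by
  have h1 : allBlocks moved 2000 61 0 = true := by decide +kernel
  have h2 : allFrom moved 760 ((0 + 61) * 2000) = true := by decide +kernel
  have e1 : 61 * 2000 + 760 = 122760 := by norm_num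
  rw [← e1, ← Nat.zero_mul 2000]
  exact allFrom_of_blocks 61 0 h1 h2

theorem tau_outer : tau ∉ Cfsg.Inn Gp := by
  rintro ⟨h, hh⟩
  have hp : pimg h 0 < nn := pimg_lt ON7H.valid.pos
  have hfix : ∀ g, g < 6 → runW (tauW g) (pimg h 0) = pimg h 0 := by
    intro g hg
    have e0 : runW [g] 0 = 0 := by
      have : ∀ g, g < 6 → runW [g] 0 = 0 := by decide +kernel
      exact this g hg
    have e : el (tauW g) = h * el [g] * h⁻¹ := by
      have e1 : tau (el [g]) = MulAut.conj h (el [g]) := by rw [hh]
      rw [MulAut.conj_apply, tau_apply, tauHom_el] at e1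
      rw [← e1]
      simp [ev]
    rw [← pimg_el (ok_tau g) hp, e, ← pimg_mul, inv_mul_cancel_right, pimg_mul,
      pimg_el (okW_of fun x hx => by rw [List.mem_singleton.mp hx]; omega) ON7H.valid.pos, e0]
  have hm := allFrom_spec moved_all (pimg h 0) (Nat.zero_le _) (by
    have hh' : pimg h 0 < 122760 := hp
    omega)
  simp only [moved, hfix 0 (by omega), hfix 1 (by omega), hfix 2 (by omega), hfix 3 (by omega),
    hfix 4 (by omega), hfix 5 (by omega)] at hm
  simp at hm

theorem psi_p : (MulAut.conj eD * tau) eP = eP⁻¹ := by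
  rw [MulAut.mul_apply, tau_apply, MulAut.conj_apply, eP, tauHom_el]
  have hall : wXp.all (fun c => okW (tauW c)) = true := List.all_eq_true.mpr fun c _ => ok_tau c
  have hD : okW wD = true ∧ okW wD.reverse = true ∧ okW wXp.reverse = true := by decide +kernel
  have h : bptsA.all (fun b => Nat.beq (runW wD (runSyms tauW wXp (runW wD.reverse b)))
      (runW wXp.reverse b)) = true := by decide +kernel
  refine eq_of_base fun b hb => ?_
  have hb' : b < nn := by
    have : ∀ b ∈ bptsA, b < 122760 := by decide
    exact this b hb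
  have hr := runW_lt hD.2.1 hb'
  have hs : runSyms tauW wXp (runW wD.reverse b) < nn := by
    rw [← pimg_syms hall hr]; exact pimg_lt hr
  rw [pimg_mul, pimg_mul, ← el_reverse wXp, eD, ← el_reverse wD, pimg_el hD.2.1 hb',
    pimg_syms hall hr, pimg_el hD.1 hs, pimg_el hD.2.2 hb']
  exact Nat.eq_of_beq_eq_true (List.all_eq_true.mp h b hb)

theorem exp_cases : ∀ e : Fin 31, (e : Nat) ≠ 0 → ∃ i : Fin 15,
    (e : Nat) * 7 ^ (i : Nat) % 31 = 1 ∨ (e : Nat) * 7 ^ (i : Nat) % 31 = 30 := by decide +kernel

/-- the classes of the inner automorphisms and of the outer one exhaust everything -/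
theorem class_cases (φ : MulAut Gp) :
    (φ : Cfsg.Out Gp) = 1 ∨ (φ : Cfsg.Out Gp) = (tau : Cfsg.Out Gp)⁻¹ := by
  have h31 : Fact (Nat.Prime 31) := ⟨by norm_num⟩
  set K : Subgroup Gp := Subgroup.zpowers eP with hK
  have hKcard : Nat.card K = 31 := by rw [hK, Nat.card_zpowers, orderOf_p]
  have hKp : IsPGroup 31 K := IsPGroup.of_card (n := 1) (by rw [hKcard, pow_one])
  have hKi : ¬ 31 ∣ K.index := by
    have h := Subgroup.index_mul_card K
    rw [hKcard, ON7Order.card_and_faithful.1] at h
    omega
  have hord : orderOf (φ eP) = 31 := by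
    rw [← orderOf_p]; exact orderOf_injective φ.toMonoidHom φ.injective eP
  have hzp : IsPGroup 31 (Subgroup.zpowers (φ eP)) :=
    IsPGroup.of_card (n := 1) (by rw [Nat.card_zpowers, hord, pow_one])
  obtain ⟨Q, hQ⟩ := hzp.exists_le_sylow
  obtain ⟨g, hg⟩ := MulAction.exists_smul_eq Gp Q (hKp.toSylow hKi)
  have hmem : g * φ eP * g⁻¹ ∈ K := by
    have h1 : φ eP ∈ (Q : Subgroup Gp) := hQ (Subgroup.mem_zpowers _)
    have h2 : g * φ eP * g⁻¹ ∈ ((g • Q : Sylow 31 Gp) : Subgroup Gp) := by
      rw [Sylow.coe_subgroup_smul, Subgroup.mem_pointwise_smul_iff_inv_smul_mem]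
      simpa [MulAut.smul_def, ← map_inv, MulAut.conj_apply, mul_assoc] using h1
    rw [hg] at h2
    exact h2
  obtain ⟨n, hn⟩ := mem_powers_iff_mem_zpowers.mpr hmem
  have hn' : eP ^ (n % 31) = g * φ eP * g⁻¹ := by
    rw [← pow_eq_pow_mod _ p_pow31]; exact hn
  have hne : n % 31 ≠ 0 := fun h0 => by
    rw [h0, pow_zero] at hn'
    have h1 : φ eP = 1 := conj_eq_one_iff.mp hn'.symm
    rw [h1, orderOf_one] at hord
    norm_num at hord
  obtain ⟨i, hi⟩ := exp_cases ⟨n % 31, Nat.mod_lt _ (by norm_num)⟩ hne
  have hmi : ∀ (a : ℕ) (e : ℕ), MulAut.conj (eM ^ a) (eP ^ e) = eP ^ (e * 7 ^ a) := by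
    intro a
    induction a with
    | zero => intro e; simp
    | succ a ih =>
      intro e
      have h7 : MulAut.conj eM eP = eP ^ 7 := by
        rw [MulAut.conj_apply, m_conj, mul_inv_cancel_right]
      rw [pow_succ' eM, map_mul, MulAut.mul_apply, ih, map_pow, h7, ← pow_mul]
      congr 1
      ring
  set φ' : MulAut Gp := MulAut.conj (eM ^ (i : Nat)) * MulAut.conj g * φ with hφ'
  have himg : φ' eP = eP ^ (n % 31 * 7 ^ (i : Nat) % 31) := by
    rw [hφ', MulAut.mul_apply, MulAut.mul_apply, MulAut.conj_apply g, ← hn', hmi,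
      ← pow_eq_pow_mod _ p_pow31]
  have hcls : (φ' : Cfsg.Out Gp) = (φ : Cfsg.Out Gp) := by
    rw [hφ', QuotientGroup.mk_mul, QuotientGroup.mk_mul]
    have : ∀ a : Gp, ((MulAut.conj a : MulAut Gp) : Cfsg.Out Gp) = 1 := fun a =>
      (QuotientGroup.eq_one_iff _).mpr ⟨a, rfl⟩
    rw [this, this, one_mul, one_mul]
  rcases hi with hi | hi
  · left
    rw [← hcls, QuotientGroup.eq_one_iff]
    refine inner_of_fix φ' ?_
    rw [himg, hi, pow_one]
  · right
    have h30 : eP ^ 30 = eP⁻¹ := by
      rw [eq_inv_iff_mul_eq_one, ← pow_succ, p_pow31]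
    have hfix : (MulAut.conj eD * tau * φ') eP = eP := by
      rw [MulAut.mul_apply, himg, hi, h30, map_inv, psi_p, inv_inv]
    have h := (QuotientGroup.eq_one_iff (N := Cfsg.Inn Gp) _).mpr (inner_of_fix _ hfix)
    rw [QuotientGroup.mk_mul, QuotientGroup.mk_mul,
      (QuotientGroup.eq_one_iff (N := Cfsg.Inn Gp) _).mpr ⟨eD, rfl⟩, one_mul, hcls] at h
    exact eq_inv_of_mul_eq_one_right h

theorem card_out : Nat.card (Cfsg.Out Gp) = 2 := by
  rw [Nat.card_eq_two_iff]
  refine ⟨1, (tau : Cfsg.Out Gp)⁻¹, fun h => tau_outer ?_, ?_⟩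
  · rw [← QuotientGroup.eq_one_iff]
    exact inv_eq_one.mp h.symm
  · refine Set.eq_univ_of_forall fun x => ?_
    induction x using QuotientGroup.induction_on with
    | H φ => simpa using class_cases φ

theorem card_out_on : Nat.card (Cfsg.Out ON) = 2 := by
  have h : (Cfsg.Inn ON).map (MulAut.congr ON7.equiv).toMonoidHom = Cfsg.Inn Gp := by
    ext f
    constructor
    · rintro ⟨_, ⟨a, rfl⟩, rfl⟩
      refine ⟨ON7.equiv a, MulEquiv.ext fun x => ?_⟩
      simp [MulAut.congr, MulAut.conj_apply]
    · rintro ⟨b, rfl⟩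
      refine ⟨MulAut.conj (ON7.equiv.symm b), ⟨_, rfl⟩, MulEquiv.ext fun x => ?_⟩
      simp [MulAut.congr, MulAut.conj_apply]
  rw [← card_out]
  exact Nat.card_congr (QuotientGroup.congr (Cfsg.Inn ON) (Cfsg.Inn Gp) (MulAut.congr ON7.equiv) h).toEquiv

end Cfsg.Agent.H16.ON7Out
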