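import Cfsg.Agent.H16.ON7OutRows
import Cfsg.Agent.H16.CosetSplit

/-! Kernel checks of the rows, part 0. -/

set_option autoImplicit false

namespace Cfsg.Agent.H16.ON7Out

open EnumData

theorem rowX_0 : allFrom stepX 2000 0 = true := by decide +kernel

theorem rowY_0 : allFrom stepY 2000 0 = true := by decide +kernel

theorem rowX_2000 : allFrom stepX 2000 2000 = true := by decide +kernel

theorem rowY_2000 : allFrom stepY 2000 2000 = true := by decide +kernel

theorem rowX_4000 : allFrom stepX 2000 4000 = true := by decide +kernel

theorem rowY_4000 : allFrom stepY 2000 4000 = true := by decide +kernel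

theorem rowX_6000 : allFrom stepX 2000 6000 = true := by decide +kernel

theorem rowY_6000 : allFrom stepY 2000 6000 = true := by decide +kernel

theorem rowX_8000 : allFrom stepX 2000 8000 = true := by decide +kernel

theorem rowY_8000 : allFrom stepY 2000 8000 = true := by decide +kernel

end Cfsg.Agent.H16.ON7Out
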