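import Cfsg.Agent.H16.ON7Order
import Cfsg.Agent.H16.CosetSplit

/-!
Membership tests in the O'Nan group as a permutation group of degree 122760: failed sifts prove that
no element has the prescribed images of the base points.
-/

set_option autoImplicit false

namespace Cfsg.Agent.H16.ON7Out

open Cfsg.Spor EnumData CoxEnum

/-- number of points -/
abbrev nn : Nat := ON7H.data.n

/-- the group -/
abbrev Gp : Type := ON7.Grp

/-- value of a word -/
noncomputable abbrev el (w : List Nat) : Gp := ev ON7H.val w

/-- the action -/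
noncomputable abbrev act : Gp →* Equiv.Perm (Fin nn) := ON7H.theModel.rho

/-- run of a word -/
noncomputable abbrev runW (w : List Nat) (i : Nat) : Nat := ON7H.data.run w i

/-- all letters are generators -/
noncomputable def okW (w : List Nat) : Bool :=
  List.rec (motive := fun _ => Bool) true (fun g _ ih => Nat.ble (Nat.succ g) 7 && ih) w

theorem okW_spec : ∀ {w : List Nat}, okW w = true → ∀ g ∈ w, g < ON7H.data.ng
  | [], _, _, hg => absurd hg (List.not_mem_nil)
  | x :: w, h, g, hg => by
    have h' : (Nat.ble (Nat.succ x) 7 && okW w) = true := h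
    rw [Bool.and_eq_true] at h'
    rcases List.mem_cons.mp hg with rfl | hg
    · exact Nat.le_of_ble_eq_true h'.1
    · exact okW_spec h'.2 g hg

theorem okW_of : ∀ {w : List Nat}, (∀ g ∈ w, g < 7) → okW w = true
  | [], _ => rfl
  | x :: w, h => by
    show (Nat.ble (Nat.succ x) 7 && okW w) = true
    rw [Bool.and_eq_true]
    exact ⟨Nat.ble_eq_true_of_le (h x (List.mem_cons_self ..)),
      okW_of fun g hg => h g (List.mem_cons_of_mem _ hg)⟩

/-- image of a point -/
noncomputable def pimg (g : Gp) (b : Nat) : Nat := if h : b < nn then (act g ⟨b, h⟩ : Nat) else b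

theorem pimg_lt {g : Gp} {b : Nat} (hb : b < nn) : pimg g b < nn := by
  rw [pimg, dif_pos hb]; exact Fin.is_lt _

theorem pimg_mul (g h : Gp) (b : Nat) : pimg (g * h) b = pimg g (pimg h b) := by
  by_cases hb : b < nn
  · simp only [pimg, dif_pos hb, dif_pos (Fin.is_lt _), map_mul, Equiv.Perm.mul_apply, Fin.eta]
  · simp only [pimg, dif_neg hb]

@[simp] theorem pimg_one (b : Nat) : pimg 1 b = b := by
  unfold pimg; split <;> simp

theorem pimg_el {w : List Nat} (hw : okW w = true) {b : Nat} (hb : b < nn) :
    pimg (el w) b = runW w b := by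
  rw [pimg, dif_pos hb, el, act, ON7H.theModel.rho_ev]
  exact ON7H.valid.perm_word w (okW_spec hw) ⟨b, hb⟩

theorem el_append (u v : List Nat) : el (u ++ v) = el v * el u := ev_append _ u v

theorem el_reverse (w : List Nat) : el w.reverse = (el w)⁻¹ := ev_reverse _ ON7H.theModel.sq w

theorem runW_lt {w : List Nat} (hw : okW w = true) {b : Nat} (hb : b < nn) : runW w b < nn := by
  rw [← pimg_el hw hb]; exact pimg_lt hb

/-- `g` fixes the listed points -/
def Fixes (g : Gp) (fixed : List Nat) : Prop := ∀ x ∈ fixed, x < nn → pimg g x = x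

theorem Fixes.mul {g h : Gp} {fixed : List Nat} (hg : Fixes g fixed) (hh : Fixes h fixed) :
    Fixes (g * h) fixed := fun x hx hn => by rw [pimg_mul, hh x hx hn, hg x hx hn]

theorem mem_fixer {g : Gp} {fixed : List Nat} (hg : Fixes g fixed) :
    act g ∈ ON7H.theModel.fixer fixed :=
  ⟨⟨g, rfl⟩, fun i hi => Fin.ext (by
    have h := hg i hi i.2
    rwa [pimg, dif_pos i.2] at h)⟩

theorem fixes_of_mem {g : Gp} {fixed : List Nat} (hg : act g ∈ ON7H.theModel.fixer fixed) :
    Fixes g fixed := fun x hx hn => by
  rw [pimg, dif_pos hn]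
  exact congrArg Fin.val (hg.2 ⟨x, hn⟩ hx)

theorem card_fixer_nil : Nat.card (ON7H.theModel.fixer []) ≤ 460815505920 := by
  rw [← ON7Order.card_and_faithful.1]
  refine Nat.card_le_card_of_surjective
    (fun g : Gp => (⟨act g, mem_fixer (fun x hx => absurd hx (List.not_mem_nil))⟩ :
      ON7H.theModel.fixer [])) ?_
  rintro ⟨p, ⟨g, rfl⟩, hp⟩
  exact ⟨g, rfl⟩

/-- In a certificate of full order every level is exact: the orbit is the one listed. -/
theorem exact_level {fixed : List Nat} {L : BaseLevel} {rest : List BaseLevel}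
    (h : ON7H.data.checkLevels (L :: rest) fixed = true)
    (hc : Nat.card (ON7H.theModel.fixer fixed) ≤ levelsProd (L :: rest)) :
    Nat.card (ON7H.theModel.fixer (L.b :: fixed)) ≤ levelsProd rest ∧
      ∀ g : Gp, Fixes g fixed → ∃ j, j < L.m ∧ L.pts.get 18 j = pimg g L.b ∧
        L.pos.get 18 (pimg g L.b) = j := by
  simp only [checkLevels, Bool.and_eq_true] at h
  obtain ⟨hL, hrest⟩ := h
  set M := ON7H.theModel with hM
  have hlow := M.levelsProd_le rest _ hrest
  have hmul := M.mul_card_le_level hL
  have hL' := hL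
  simp only [checkLevel, Bool.and_eq_true, List.all_eq_true, forceNat_eq] at hL
  obtain ⟨⟨⟨hb, hm⟩, hgens⟩, hpts⟩ := hL
  have hm' : 1 ≤ L.m := Nat.le_of_ble_eq_true hm
  have hk : Nat.card (M.fixer (L.b :: fixed)) ≤ levelsProd rest := by
    refine Nat.le_of_mul_le_mul_left ?_ hm'
    exact hmul.trans hc
  refine ⟨hk, ?_⟩
  have hb' : L.b < ON7H.data.n := Nat.le_of_ble_eq_true hb
  set b : Fin ON7H.data.n := ⟨L.b, hb'⟩ with hbdef
  have hlt : ∀ w ∈ L.gens, ∀ g ∈ w, g < ON7H.data.ng := fun w hw g hg =>
    Nat.le_of_ble_eq_true ((hgens w hw).1 g hg)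
  have hgenmem : ∀ w ∈ L.gens, ev ON7H.valid.perm w ∈ M.fixer fixed := by
    refine fun w hw => ⟨⟨ev ON7H.val w, M.rho_ev w⟩, fun i hi => Fin.ext ?_⟩
    rw [ON7H.valid.perm_word w (hlt w hw)]
    exact Nat.eq_of_beq_eq_true ((hgens w hw).2 i hi)
  have key : ∀ j, j < L.m → ∃ σ ∈ M.fixer fixed,
      ((σ b : Fin ON7H.data.n) : Nat) = L.pts.get 18 j := by
    intro j
    induction j using Nat.strong_induction_on with
    | _ j IH =>
      intro hj
      have hh := allFrom_spec hpts j (Nat.zero_le j) (by omega)
      simp only [Bool.and_eq_true] at hh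
      obtain ⟨-, hh⟩ := hh
      cases h0 : Nat.beq j 0 with
      | true =>
        simp only [h0] at hh
        exact ⟨1, one_mem _, (Nat.eq_of_beq_eq_true hh).symm⟩
      | false =>
        simp only [h0, Bool.and_eq_true] at hh
        obtain ⟨⟨hp, hk⟩, hrun⟩ := hh
        have hp' := Nat.le_of_ble_eq_true hp
        have hk' := Nat.le_of_ble_eq_true hk
        obtain ⟨σ, hσ, hσb⟩ := IH _ hp' (by omega)
        have hw : L.gens.getD (bitField (L.ent.get 30 j) 18 12) [] ∈ L.gens := by
          rw [List.getD_eq_getElem _ _ hk']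
          exact List.getElem_mem _
        refine ⟨_ * σ, mul_mem (hgenmem _ hw) hσ, ?_⟩
        rw [Equiv.Perm.mul_apply, ON7H.valid.perm_word _ (hlt _ hw), hσb]
        exact Nat.eq_of_beq_eq_true hrun
  choose σ hσ hσb using key
  have hpos : ∀ j, j < L.m → L.pos.get 18 (L.pts.get 18 j) = j := by
    intro j hj
    have hh := allFrom_spec hpts j (Nat.zero_le j) (by omega)
    simp only [Bool.and_eq_true] at hh
    exact Nat.eq_of_beq_eq_true hh.1
  let f : Fin L.m → MulAction.orbit (M.fixer fixed) b := fun j =>
    ⟨σ j j.2 b, ⟨⟨σ j j.2, hσ j j.2⟩, rfl⟩⟩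
  have hf : Function.Injective f := by
    intro i j hij
    have hij' : L.pts.get 18 i = L.pts.get 18 j := by
      rw [← hσb i i.2, ← hσb j j.2]
      exact congrArg (fun z : MulAction.orbit (M.fixer fixed) b =>
        ((z : Fin ON7H.data.n) : Nat)) hij
    exact Fin.ext (by rw [← hpos i i.2, ← hpos j j.2, hij'])
  have hstab : Nat.card (M.fixer (L.b :: fixed)) ≤
      Nat.card (MulAction.stabilizer (M.fixer fixed) b) := by
    refine Nat.card_le_card_of_injective (fun x => ⟨⟨x.1, x.2.1, fun i hi =>
      x.2.2 i (List.mem_cons_of_mem _ hi)⟩, ?_⟩) ?_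
    · exact MulAction.mem_stabilizer_iff.mpr (x.2.2 b (List.mem_cons_self ..))
    · intro x y h
      have h2 := congrArg Subtype.val (congrArg Subtype.val h)
      exact Subtype.ext h2
  have horbit : Nat.card (MulAction.orbit (M.fixer fixed) b) *
      Nat.card (MulAction.stabilizer (M.fixer fixed) b) = Nat.card (M.fixer fixed) := by
    rw [← Nat.card_prod]
    exact Nat.card_congr (MulAction.orbitProdStabilizerEquivGroup (M.fixer fixed) b)
  have hle : Nat.card (MulAction.orbit (M.fixer fixed) b) ≤ L.m := by
    refine Nat.le_of_mul_le_mul_right ?_ (Nat.card_pos (α := M.fixer (L.b :: fixed)))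
    calc Nat.card (MulAction.orbit (M.fixer fixed) b) * Nat.card (M.fixer (L.b :: fixed))
        ≤ Nat.card (MulAction.orbit (M.fixer fixed) b) *
            Nat.card (MulAction.stabilizer (M.fixer fixed) b) := Nat.mul_le_mul_left _ hstab
      _ = Nat.card (M.fixer fixed) := horbit
      _ ≤ L.m * levelsProd rest := hc
      _ ≤ L.m * Nat.card (M.fixer (L.b :: fixed)) := Nat.mul_le_mul_left _ hlow
  have hbij : Function.Bijective f :=
    (Nat.bijective_iff_injective_and_card f).mpr ⟨hf, le_antisymm
      (Nat.card_le_card_of_injective f hf) (by simpa using hle)⟩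
  intro g hg
  obtain ⟨j, hj⟩ := hbij.2 ⟨act g b, ⟨⟨act g, mem_fixer hg⟩, rfl⟩⟩
  have hval : L.pts.get 18 j = pimg g L.b := by
    rw [← hσb j j.2, pimg, dif_pos hb']
    exact congrArg (fun z : MulAction.orbit (M.fixer fixed) b =>
      ((z : Fin ON7H.data.n) : Nat)) hj
  exact ⟨j, j.2, hval, hval ▸ hpos j j.2⟩

/-- letters undoing the path of orbit point `j` -/
noncomputable def undo (L : BaseLevel) (fuel : Nat) : Nat → List Nat :=
  Nat.rec (motive := fun _ => Nat → List Nat) (fun _ => [])
    (fun _ ih j =>
      Bool.rec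
        (forceNat (L.ent.get 30 j) fun e =>
          (L.gens.getD (bitField e 18 12) []).reverse ++ ih (bitField e 0 18))
        [] (Nat.beq j 0)) fuel

/-- the sift of the images fails -/
noncomputable def siftFail (ls : List BaseLevel) : List Nat → Bool :=
  List.rec (motive := fun _ => List Nat → Bool) (fun _ => false)
    (fun L _ ih t => List.rec (motive := fun _ => Bool) false
      (fun p ts _ => forceNat p fun p => forceNat (L.pos.get 18 p) fun j =>
        Bool.rec true
          (Nat.beq (runW (undo L 64 j) p) L.b && ih (ts.map (runW (undo L 64 j))))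
          (Nat.ble (Nat.succ j) L.m && Nat.beq (L.pts.get 18 j) p)) t) ls

/-- `g` maps the base points to the listed images -/
def Matches (g : Gp) : List BaseLevel → List Nat → Prop
  | L :: ls, p :: ts => pimg g L.b = p ∧ Matches g ls ts
  | _, _ => True

theorem undo_fixes {fixed : List Nat} {L : BaseLevel}
    (h : ON7H.data.checkLevel fixed L = true) (fuel : Nat) :
    ∀ j, okW (undo L fuel j) = true ∧ Fixes (el (undo L fuel j)) fixed := by
  simp only [checkLevel, Bool.and_eq_true, List.all_eq_true, forceNat_eq] at h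
  obtain ⟨⟨⟨-, -⟩, hgens⟩, -⟩ := h
  have hw : ∀ k, okW (L.gens.getD k []).reverse = true ∧
      Fixes (el (L.gens.getD k []).reverse) fixed := by
    intro k
    by_cases hk : k < L.gens.length
    · rw [List.getD_eq_getElem _ _ hk]
      obtain ⟨h1, h2⟩ := hgens _ (List.getElem_mem hk)
      have hok : okW (L.gens[k]) = true := okW_of fun g hg => Nat.le_of_ble_eq_true (h1 g hg)
      have hokr : okW (L.gens[k]).reverse = true := okW_of fun g hg =>
        Nat.le_of_ble_eq_true (h1 g (List.mem_reverse.mp hg))
      refine ⟨hokr, fun x hx hn => ?_⟩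
      have e : pimg (el L.gens[k]) x = x := by
        rw [pimg_el hok hn]; exact Nat.eq_of_beq_eq_true (h2 x hx)
      rw [el_reverse]
      conv_lhs => rw [← e]
      rw [← pimg_mul, inv_mul_cancel, pimg_one]
    · rw [List.getD_eq_default _ _ (by omega)]
      exact ⟨rfl, fun x _ _ => by simp [el, ev]⟩
  induction fuel with
  | zero => intro j; exact ⟨rfl, fun x _ _ => by simp [undo, el, ev]⟩
  | succ n ih =>
    intro j
    cases h0 : Nat.beq j 0 with
    | true =>
      have e : undo L (n + 1) j = [] := by simp only [undo, h0]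
      rw [e]
      exact ⟨rfl, fun x _ _ => by simp [el, ev]⟩
    | false =>
      have e : undo L (n + 1) j = (L.gens.getD (bitField (L.ent.get 30 j) 18 12) []).reverse ++
          undo L n (bitField (L.ent.get 30 j) 0 18) := by
        simp only [undo, h0, forceNat_eq]
      obtain ⟨a1, a2⟩ := hw (bitField (L.ent.get 30 j) 18 12)
      obtain ⟨b1, b2⟩ := ih (bitField (L.ent.get 30 j) 0 18)
      rw [e]
      refine ⟨okW_of fun g hg => ?_, ?_⟩
      · rcases List.mem_append.mp hg with hg | hg
        · exact okW_spec a1 g hg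
        · exact okW_spec b1 g hg
      · rw [el_append]
        exact b2.mul a2

/-- A failed sift: no element has these images. -/
theorem not_matches_of_siftFail : ∀ (ls : List BaseLevel) (fixed t : List Nat),
    ON7H.data.checkLevels ls fixed = true →
    Nat.card (ON7H.theModel.fixer fixed) ≤ levelsProd ls → siftFail ls t = true →
    (∀ p ∈ t, p < nn) → ∀ g : Gp, Fixes g fixed → ¬ Matches g ls t
  | [], _, _, _, _, h, _, _, _ => fun _ => Bool.noConfusion (h : false = true)
  | _ :: _, _, [], _, _, h, _, _, _ => fun _ => Bool.noConfusion (h : false = true)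
  | L :: ls, fixed, p :: ts, hc, hn, h, hlt, g, hg => fun hmt => by
    obtain ⟨hp, hts⟩ : pimg g L.b = p ∧ Matches g ls ts := hmt
    obtain ⟨hk, horb⟩ := exact_level hc hn
    obtain ⟨j, hj, hpj, hposj⟩ := horb g hg
    rw [hp] at hpj hposj
    have h' : (forceNat p fun p => forceNat (L.pos.get 18 p) fun j => (Bool.rec true
        (Nat.beq (runW (undo L 64 j) p) L.b && siftFail ls (ts.map (runW (undo L 64 j))))
        (Nat.ble (Nat.succ j) L.m && Nat.beq (L.pts.get 18 j) p) : Bool)) = true := h
    rw [forceNat_eq, forceNat_eq, hposj, Nat.ble_eq_true_of_le hj, hpj] at h'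
    simp only [Nat.beq_refl, Bool.and_true, Bool.and_eq_true] at h'
    obtain ⟨hback, hrec⟩ := h'
    simp only [checkLevels, Bool.and_eq_true] at hc
    obtain ⟨hok, hfix⟩ := undo_fixes hc.1 64 j
    have hb' : L.b < nn := by
      have h1 := hc.1
      simp only [checkLevel, Bool.and_eq_true] at h1
      exact Nat.le_of_ble_eq_true h1.1.1.1
    set r := undo L 64 j
    refine not_matches_of_siftFail ls (L.b :: fixed) (ts.map (runW r)) hc.2 hk hrec ?_
      (el r * g) ?_ ?_
    · intro q hq
      obtain ⟨q', hq', rfl⟩ := List.mem_map.mp hq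
      exact runW_lt hok (hlt q' (List.mem_cons_of_mem _ hq'))
    · intro x hx hxn
      rcases List.mem_cons.mp hx with rfl | hx
      · rw [pimg_mul, hp, pimg_el hok (hlt p (List.mem_cons_self ..))]
        exact Nat.eq_of_beq_eq_true hback
      · exact (hfix.mul hg) x hx hxn
    · have aux : ∀ (ls' : List BaseLevel) (ts' : List Nat), (∀ q ∈ ts', q < nn) →
          Matches g ls' ts' → Matches (el r * g) ls' (ts'.map (runW r)) := by
        intro ls'
        induction ls' with
        | nil => intro ts' _ _; simp [Matches]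
        | cons L' ls' ih =>
          intro ts' hlt' hm'
          cases ts' with
          | nil => simp [Matches]
          | cons q qs =>
            obtain ⟨hq, hqs⟩ : pimg g L'.b = q ∧ Matches g ls' qs := hm'
            refine ⟨?_, ih qs (fun x hx => hlt' x (List.mem_cons_of_mem _ hx)) hqs⟩
            rw [pimg_mul, hq, pimg_el hok (hlt' q (List.mem_cons_self ..))]
      exact aux ls ts (fun x hx => hlt x (List.mem_cons_of_mem _ hx)) hts

/-- check of one point in the induction along the cycles of a word -/
noncomputable def cycleStep (lab : PArr) (winv : List Nat) (row : Nat → Bool) (p : Nat) : Bool :=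
  forceNat (lab.get 5 p) fun j =>
    Bool.rec (Nat.beq (Nat.succ (lab.get 5 (runW winv p))) j) (row p) (Nat.beq j 0)

/-- A property of the elements commuting with `el w` need only be checked at one point of each cycle. -/
theorem of_cycles {w : List Nat} (hwr : okW w.reverse = true) {lab : PArr}
    {row : Nat → Bool} (h : ∀ p, p < 122760 → cycleStep lab w.reverse row p = true)
    {S : Gp → Prop} (hS : ∀ s, S s → S (el w * s))
    (hrow : ∀ p, p < nn → row p = true → ∀ g, Commute g (el w) → pimg g 0 = p → S g)
    (g : Gp) (hg : Commute g (el w)) : S g := by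
  have h0 : (0 : Nat) < nn := ON7H.valid.pos
  have key : ∀ j p, p < nn → lab.get 5 p = j → ∀ g, Commute g (el w) → pimg g 0 = p → S g := by
    intro j
    induction j with
    | zero =>
      intro p hp hj g hg hgp
      have hh := h p hp
      rw [cycleStep, forceNat_eq, hj] at hh
      exact hrow p hp hh g hg hgp
    | succ j ih =>
      intro p hp hj g hg hgp
      have hh := h p hp
      rw [cycleStep, forceNat_eq, hj] at hh
      have hj' : lab.get 5 (runW w.reverse p) = j :=
        Nat.succ.inj (Nat.eq_of_beq_eq_true hh)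
      have hs : S ((el w)⁻¹ * g) := by
        refine ih (runW w.reverse p) (runW_lt hwr hp) hj' _ ?_ ?_
        · exact (Commute.inv_left (Commute.refl (el w))).mul_left hg
        · rw [pimg_mul, hgp, ← el_reverse, pimg_el hwr hp]
      have := hS _ hs
      rwa [mul_inv_cancel_left] at this
  exact key _ _ (pimg_lt h0) rfl g hg rfl

end Cfsg.Agent.H16.ON7Out
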