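import Cfsg.Agent.H16.ON7OutLib
import Cfsg.Agent.H16.ON7OutData

/-! The row checks for the centralisers of an element of order 31 and of one of order 5. -/

set_option autoImplicit false

namespace Cfsg.Agent.H16.ON7Out

open EnumData

/-- images of points under a word -/
noncomputable def imgs (w : List Nat) (bs : List Nat) : List Nat := bs.map (runW w)

/-- row at `p`: no element commuting with the element of order 31 maps 0 to `p` -/
noncomputable def rowX (p : Nat) : Bool :=
  Nat.beq p 0 ||
    siftFail baseA [p, runW wX p, runW (wX ++ wX ++ wX ++ wX) p]

/-- word `k` of the list -/
noncomputable def cyW (k : Nat) : List Nat := nthWord cyWords k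

/-- row at `p`: an element commuting with the element of order 5 mapping 0 to `p` is in the list -/
noncomputable def rowY (p : Nat) : Bool :=
  forceNat (runW wY p) fun q =>
    siftFail baseY [p, q, runW wY q] ||
      solsY.any (fun e => Nat.beq e.1 p &&
        (Nat.ble (Nat.succ e.2) 180 && natListEq (imgs (cyW e.2) [0, 1, 86]) [p, q, runW wY q]))

/-- step of the induction along the cycles -/
noncomputable def stepX : Nat → Bool := cycleStep labX wX.reverse rowX

/-- step of the induction along the cycles -/
noncomputable def stepY : Nat → Bool := cycleStep labY wY.reverse rowY

end Cfsg.Agent.H16.ON7Out
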