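import Cfsg.Agent.H16.CosetEnum

/-! Enumeration certificate data: ONJ, subgroup D. -/

set_option autoImplicit false
set_option maxRecDepth 20000

namespace Cfsg.Agent.H16.ONJD

local notation "L" => PArr.leaf
local notation "N" => PArr.node

/-- certificate data -/
def wordList : List (List Nat) :=
[[],
[0,0],
[1,1],
[0,0],
[1,1],
[1,0,1,0,1,0,1,0,1,0,1,0,1,0,1,0,1,0,1,0,1,0],
[0,1,0,1,0,1,0,1,0,1,0,1,0,1,0,1,0,1,0,1,0,1],
[0]]

/-- certificate data -/
def factArr : PArr :=
(L 0x14001000240c000504000a000000000000000003fe0005000009000000000000000003fe0004840008000000000000000003fe0004000007000000000000000003fe0003840006000000000000000003fe0003000005000000000000000003fe0002840004000000000000000003fe0002000003000000000000000003fe0001840002000000000000000003fe0001000001000000000000000003fe00008400000000000000000000000e0000000000)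

/-- certificate data -/
def refArr : PArr :=
(L 0xa00000900000800000700000600000500000400000300000200000100000000000100000200000300000400000500000600000700000800000900000a)

/-- certificate data -/
def defArr : PArr :=
(L 0x242000400000708000c0000142000200000308000400000420000000000)

/-- certificate data -/
def repArr : PArr :=
(L 0xa0002400080001c00060001400040000c0002000040000)

/-- certificate data -/
def tableArr : PArr :=
(L 0xb00028000028000900000900020000028000a0000090002400002000070000070001800002000080000070001c00001800050000050001000001800060000050001400001000030000030000800001000040000030000c0000080001000001000000000080002000001000040000000000)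

/-- certificate data -/
def treeArr : PArr :=
(L 0x242000400000708000c0000142000200000308000400000420000000000)

/-- certificate data -/
def wordTree : WTree :=
(WTree.node (WTree.node (WTree.node (WTree.leaf [])
(WTree.leaf [1,1]))
(WTree.node (WTree.leaf [1,1])
(WTree.leaf [0,1,0,1,0,1,0,1,0,1,0,1,0,1,0,1,0,1,0,1,0,1])))
(WTree.node (WTree.node (WTree.leaf [0,0])
(WTree.leaf [1,0,1,0,1,0,1,0,1,0,1,0,1,0,1,0,1,0,1,0,1,0]))
(WTree.node (WTree.leaf [0,0])
(WTree.leaf [0]))))

/-- certificate data -/
def data : EnumData :=
⟨2, 11, 12, wordList, 7, 8, wordTree, 6, factArr, refArr, defArr, repArr, tableArr, treeArr⟩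

end Cfsg.Agent.H16.ONJD
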