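import Cfsg.Agent.H16.CosetEnum

/-! Enumeration certificate data: ONJ, subgroup W. -/

set_option autoImplicit false
set_option maxRecDepth 20000

namespace Cfsg.Agent.H16.ONJW

local notation "L" => PArr.leaf
local notation "N" => PArr.node

/-- certificate data -/
def wordList : List (List Nat) :=
[[],
[0,0],
[1,1],
[2,2],
[0,0],
[1,1],
[2,2],
[1,0,1,0,1,0,1,0,1,0,1,0,1,0,1,0,1,0,1,0,1,0],
[2,0,2,0,2,0,2,0,2,0,2,0,2,0,2,0,2,0,2,0,2,0],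
[2,1,2,1,2,1,2,1,2,1,2,1,2,1,2,1,2,1,2,1,2,1],
[0,1,0,1,2,0,1,0,1,2,0,1,0,1,2],
[0,1,2,0,2,0,1,2,0,2,0,1,2,0,2],
[0,1,2,1,2,0,1,2,1,2,0,1,2,1,2],
[0,1,0,1,0,1,0,1,0,1,0,1,0,1,0,1,0,1,0,1,0,1],
[0,1,0,1,0,2,0,1,0,1,0,2,0,1,0,1,0,2,0,1,0,1,0,2,0,1,0,1,0,2],
[0,2,0,1],
[0,1,0,1,0,1,0,1,0,1,0,1,0,1,0,1,0,1,0,1,0,1],
[0,2,0,2,0,2,0,2,0,2,0,2,0,2,0,2,0,2,0,2,0,2],
[1,2,1,2,1,2,1,2,1,2,1,2,1,2,1,2,1,2,1,2,1,2],
[1,0,1,2,0,1,0,1,2,0,1,0,1,2,0],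
[0,1,2,0,1,0,1,2,0,1,0,1,2,0,1],
[1,2,0,1,0,1,2,0,1,0,1,2,0,1,0],
[2,0,1,0,1,2,0,1,0,1,2,0,1,0,1],
[2,1,0,1,0,2,1,0,1,0,2,1,0,1,0],
[1,0,1,0,2,1,0,1,0,2,1,0,1,0,2],
[0,1,0,2,1,0,1,0,2,1,0,1,0,2,1],
[1,0,2,1,0,1,0,2,1,0,1,0,2,1,0],
[0,2,1,0,1,0,2,1,0,1,0,2,1,0,1],
[1,2,0,2,0,1,2,0,2,0,1,2,0,2,0],
[2,0,2,0,1,2,0,2,0,1,2,0,2,0,1],
[0,2,0,1,2,0,2,0,1,2,0,2,0,1,2],
[2,0,1,2,0,2,0,1,2,0,2,0,1,2,0],
[2,0,2,1,0,2,0,2,1,0,2,0,2,1,0],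
[0,2,1,0,2,0,2,1,0,2,0,2,1,0,2],
[2,1,0,2,0,2,1,0,2,0,2,1,0,2,0],
[1,0,2,0,2,1,0,2,0,2,1,0,2,0,2],
[0,2,0,2,1,0,2,0,2,1,0,2,0,2,1],
[1,2,1,2,0,1,2,1,2,0,1,2,1,2,0],
[2,1,2,0,1,2,1,2,0,1,2,1,2,0,1],
[1,2,0,1,2,1,2,0,1,2,1,2,0,1,2],
[2,0,1,2,1,2,0,1,2,1,2,0,1,2,1],
[2,1,2,1,0,2,1,2,1,0,2,1,2,1,0],
[1,2,1,0,2,1,2,1,0,2,1,2,1,0,2],
[2,1,0,2,1,2,1,0,2,1,2,1,0,2,1],
[1,0,2,1,2,1,0,2,1,2,1,0,2,1,2],
[0,2,1,2,1,0,2,1,2,1,0,2,1,2,1],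
[1,0,1,0,1,0,1,0,1,0,1,0,1,0,1,0,1,0,1,0,1,0],
[1,0,1,0,2,0,1,0,1,0,2,0,1,0,1,0,2,0,1,0,1,0,2,0,1,0,1,0,2,0],
[0,1,0,2,0,1,0,1,0,2,0,1,0,1,0,2,0,1,0,1,0,2,0,1,0,1,0,2,0,1],
[1,0,2,0,1,0,1,0,2,0,1,0,1,0,2,0,1,0,1,0,2,0,1,0,1,0,2,0,1,0],
[0,2,0,1,0,1,0,2,0,1,0,1,0,2,0,1,0,1,0,2,0,1,0,1,0,2,0,1,0,1],
[2,0,1,0,1,0,2,0,1,0,1,0,2,0,1,0,1,0,2,0,1,0,1,0,2,0,1,0,1,0],
[2,0,1,0],
[0,1,0,2],
[1,0,2,0]]

/-- certificate data -/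
def factArr : PArr :=
(L 0x5500100100004020000000000000003f000016000000e00000c0001000003d00100100008040000040000000003a001002000180600010c00000000037001002000240200030c0000000002800000f000242600048c00010000025002001000146c0003000009000002500000000003fe000484000500000230010010000c060000080000000002100100100010040000840001000001e0010020001c0400018c0000000001b001002000200600020c00010000018001002000200200038c0002000000900000f000202e00040c0005000000600200100010680003800008000000600000000003fe0004080004000000600000000003fe0003840003000000600000000003fe0003080002000000300200100004680001000005000000300000000003fe00028800010000000002001000046c0001800004000000000000000003fe0002040001000000000000000003fe0001880000000000000000000003fe0001040000000000000000000003fe0000800000)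

/-- certificate data -/
def refArr : PArr :=
(L 0x1700000000001600000000000f00000000001600000000000f00000000001600000000000f00000000001600000000000f00000000001600000000000f00000000001600000100001500000700001000001400001200000000001300000000001000000100000600001100001200000700000100000000000f00000000001000000100000600001100000700000600001100000200000e00000300000d00000800000100000c00000900000500000b00000a00000600000b00000600000100000000000300000900000a000008000004000003000005000006000001000000000003000009000008000004000009000001000000000005000002000000000003)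

/-- certificate data -/
def defArr : PArr :=
(L 0x200028800040800062000084000084000110000010000000000000000)

/-- certificate data -/
def repArr : PArr :=
(L 0x0)

/-- certificate data -/
def tableArr : PArr :=
(L 0x400000000016000000000600000)

/-- certificate data -/
def treeArr : PArr :=
(L 0x0)

/-- certificate data -/
def wordTree : WTree :=
(WTree.node (WTree.node (WTree.node (WTree.node (WTree.node (WTree.node (WTree.leaf [])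
(WTree.leaf [2,0,2,1,0,2,0,2,1,0,2,0,2,1,0]))
(WTree.node (WTree.leaf [0,1,0,1,0,1,0,1,0,1,0,1,0,1,0,1,0,1,0,1,0,1])
(WTree.leaf [0,1,0,2,0,1,0,1,0,2,0,1,0,1,0,2,0,1,0,1,0,2,0,1,0,1,0,2,0,1])))
(WTree.node (WTree.node (WTree.leaf [2,0,2,0,2,0,2,0,2,0,2,0,2,0,2,0,2,0,2,0,2,0])
(WTree.leaf [2,0,1,2,1,2,0,1,2,1,2,0,1,2,1]))
(WTree.node (WTree.leaf [1,0,1,0,2,1,0,1,0,2,1,0,1,0,2])
(WTree.leaf []))))
(WTree.node (WTree.node (WTree.node (WTree.leaf [0,0])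
(WTree.leaf [0,2,0,2,1,0,2,0,2,1,0,2,0,2,1]))
(WTree.node (WTree.leaf [0,1,2,0,1,0,1,2,0,1,0,1,2,0,1])
(WTree.leaf [2,0,1,0])))
(WTree.node (WTree.node (WTree.leaf [0,1,2,1,2,0,1,2,1,2,0,1,2,1,2])
(WTree.leaf [1,0,2,1,2,1,0,2,1,2,1,0,2,1,2]))
(WTree.node (WTree.leaf [1,2,0,2,0,1,2,0,2,0,1,2,0,2,0])
(WTree.leaf [])))))
(WTree.node (WTree.node (WTree.node (WTree.node (WTree.leaf [1,1])
(WTree.leaf [2,1,0,2,0,2,1,0,2,0,2,1,0,2,0]))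
(WTree.node (WTree.leaf [1,2,1,2,1,2,1,2,1,2,1,2,1,2,1,2,1,2,1,2,1,2])
(WTree.leaf [0,2,0,1,0,1,0,2,0,1,0,1,0,2,0,1,0,1,0,2,0,1,0,1,0,2,0,1,0,1])))
(WTree.node (WTree.node (WTree.leaf [0,1,0,1,2,0,1,0,1,2,0,1,0,1,2])
(WTree.leaf [1,2,1,0,2,1,2,1,0,2,1,2,1,0,2]))
(WTree.node (WTree.leaf [1,0,2,1,0,1,0,2,1,0,1,0,2,1,0])
(WTree.leaf []))))
(WTree.node (WTree.node (WTree.node (WTree.leaf [2,2])
(WTree.leaf [2,1,2,0,1,2,1,2,0,1,2,1,2,0,1]))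
(WTree.node (WTree.leaf [2,0,1,0,1,2,0,1,0,1,2,0,1,0,1])
(WTree.leaf [1,0,2,0])))
(WTree.node (WTree.node (WTree.leaf [0,1,0,1,0,2,0,1,0,1,0,2,0,1,0,1,0,2,0,1,0,1,0,2,0,1,0,1,0,2])
(WTree.leaf [1,0,1,0,1,0,1,0,1,0,1,0,1,0,1,0,1,0,1,0,1,0]))
(WTree.node (WTree.leaf [0,2,0,1,2,0,2,0,1,2,0,2,0,1,2])
(WTree.leaf []))))))
(WTree.node (WTree.node (WTree.node (WTree.node (WTree.node (WTree.leaf [0,0])
(WTree.leaf [0,2,1,0,2,0,2,1,0,2,0,2,1,0,2]))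
(WTree.node (WTree.leaf [0,2,0,2,0,2,0,2,0,2,0,2,0,2,0,2,0,2,0,2,0,2])
(WTree.leaf [1,0,2,0,1,0,1,0,2,0,1,0,1,0,2,0,1,0,1,0,2,0,1,0,1,0,2,0,1,0])))
(WTree.node (WTree.node (WTree.leaf [2,1,2,1,2,1,2,1,2,1,2,1,2,1,2,1,2,1,2,1,2,1])
(WTree.leaf [2,1,2,1,0,2,1,2,1,0,2,1,2,1,0]))
(WTree.node (WTree.leaf [0,1,0,2,1,0,1,0,2,1,0,1,0,2,1])
(WTree.leaf []))))
(WTree.node (WTree.node (WTree.node (WTree.leaf [1,1])
(WTree.leaf [1,2,1,2,0,1,2,1,2,0,1,2,1,2,0]))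
(WTree.node (WTree.leaf [1,2,0,1,0,1,2,0,1,0,1,2,0,1,0])
(WTree.leaf [0,1,0,2])))
(WTree.node (WTree.node (WTree.leaf [0,1,0,1,0,1,0,1,0,1,0,1,0,1,0,1,0,1,0,1,0,1])
(WTree.leaf [0,2,1,2,1,0,2,1,2,1,0,2,1,2,1]))
(WTree.node (WTree.leaf [2,0,2,0,1,2,0,2,0,1,2,0,2,0,1])
(WTree.leaf [])))))
(WTree.node (WTree.node (WTree.node (WTree.node (WTree.leaf [2,2])
(WTree.leaf [1,0,2,0,2,1,0,2,0,2,1,0,2,0,2]))
(WTree.node (WTree.leaf [1,0,1,2,0,1,0,1,2,0,1,0,1,2,0])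
(WTree.leaf [2,0,1,0,1,0,2,0,1,0,1,0,2,0,1,0,1,0,2,0,1,0,1,0,2,0,1,0,1,0])))
(WTree.node (WTree.node (WTree.leaf [0,1,2,0,2,0,1,2,0,2,0,1,2,0,2])
(WTree.leaf [2,1,0,2,1,2,1,0,2,1,2,1,0,2,1]))
(WTree.node (WTree.leaf [0,2,1,0,1,0,2,1,0,1,0,2,1,0,1])
(WTree.leaf []))))
(WTree.node (WTree.node (WTree.node (WTree.leaf [1,0,1,0,1,0,1,0,1,0,1,0,1,0,1,0,1,0,1,0,1,0])
(WTree.leaf [1,2,0,1,2,1,2,0,1,2,1,2,0,1,2]))
(WTree.node (WTree.leaf [2,1,0,1,0,2,1,0,1,0,2,1,0,1,0])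
(WTree.leaf [])))
(WTree.node (WTree.node (WTree.leaf [0,2,0,1])
(WTree.leaf [1,0,1,0,2,0,1,0,1,0,2,0,1,0,1,0,2,0,1,0,1,0,2,0,1,0,1,0,2,0]))
(WTree.node (WTree.leaf [2,0,1,2,0,2,0,1,2,0,2,0,1,2,0])
(WTree.leaf [])))))))

/-- certificate data -/
def data : EnumData :=
⟨3, 1, 25, wordList, 55, 55, wordTree, 16, factArr, refArr, defArr, repArr, tableArr, treeArr⟩

end Cfsg.Agent.H16.ONJW
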