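import Cfsg.Agent.H16.CosetEnum

/-! Enumeration certificate data: ONM, subgroup D. -/

set_option autoImplicit false
set_option maxRecDepth 20000

namespace Cfsg.Agent.H16.ONMD

local notation "L" => PArr.leaf
local notation "N" => PArr.node

/-- certificate data -/
def wordList : List (List Nat) :=
[[],
[0,0],
[1,1],
[0,0],
[1,1],
[1,0,1,0,1,0,1,0,1,0,1,0],
[0,1,0,1,0,1,0,1,0,1,0,1],
[0]]

/-- certificate data -/
def factArr : PArr :=
(L 0xa001000100a0002800005000000000000000003fe0002840004000000000000000003fe0002000003000000000000000003fe0001840002000000000000000003fe0001000001000000000000000003fe00008400000000000000000000000e0000000000)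

/-- certificate data -/
def refArr : PArr :=
(L 0x5000004000003000002000001000000000001000002000003000004000005)

/-- certificate data -/
def defArr : PArr :=
(L 0x2000200000308000400000420000000000)

/-- certificate data -/
def repArr : PArr :=
(L 0x1400040000c0002000040000)

/-- certificate data -/
def tableArr : PArr :=
(L 0x50001000001800050000050001400001000030000030000800001000040000030000c0000080001000001000000000080002000001000040000000000)

/-- certificate data -/
def treeArr : PArr :=
(L 0x2000200000308000400000420000000000)

/-- certificate data -/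
def wordTree : WTree :=
(WTree.node (WTree.node (WTree.node (WTree.leaf [])
(WTree.leaf [1,1]))
(WTree.node (WTree.leaf [1,1])
(WTree.leaf [0,1,0,1,0,1,0,1,0,1,0,1])))
(WTree.node (WTree.node (WTree.leaf [0,0])
(WTree.leaf [1,0,1,0,1,0,1,0,1,0,1,0]))
(WTree.node (WTree.leaf [0,0])
(WTree.leaf [0]))))

/-- certificate data -/
def data : EnumData :=
⟨2, 6, 7, wordList, 7, 8, wordTree, 6, factArr, refArr, defArr, repArr, tableArr, treeArr⟩

end Cfsg.Agent.H16.ONMD
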