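import Cfsg.Agent.H16.CosetEnum

/-! Enumeration certificate data: ONM, subgroup W. -/

set_option autoImplicit false
set_option maxRecDepth 20000

namespace Cfsg.Agent.H16.ONMW

local notation "L" => PArr.leaf
local notation "N" => PArr.node

/-- certificate data -/
def wordList : List (List Nat) :=
[[],
[0,0],
[1,1],
[2,2],
[0,0],
[1,1],
[2,2],
[1,0,1,0,1,0,1,0,1,0,1,0],
[2,0,2,0,2,0,2,0,2,0,2,0],
[2,1,2,1,2,1,2,1,2,1,2,1],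
[0,1,0,1,0,1,0,1,0,1,0,1],
[0,2,0,2,1,2,0,2,0,2,1,2,0,2,0,2,1,2],
[1,0,1,2,0,2,1,0,1,0,2,0],
[0,1,2,1,2,0,2,0,1,2,1,2,0,2,0,1,2,1,2,0,2],
[2,0,1],
[0,1,0,1,0,1,0,1,0,1,0,1],
[0,2,0,2,0,2,0,2,0,2,0,2],
[1,2,1,2,1,2,1,2,1,2,1,2],
[1,0,1,0,1,0,1,0,1,0,1,0],
[2,0,2,1,2,0,2,0,2,1,2,0,2,0,2,1,2,0],
[0,2,1,2,0,2,0,2,1,2,0,2,0,2,1,2,0,2],
[2,1,2,0,2,0,2,1,2,0,2,0,2,1,2,0,2,0],
[1,2,0,2,0,2,1,2,0,2,0,2,1,2,0,2,0,2],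
[2,0,2,0,2,1,2,0,2,0,2,1,2,0,2,0,2,1],
[0,1,2,0,2,1,0,1,0,2,0,1],
[1,2,0,2,1,0,1,0,2,0,1,0],
[2,0,2,1,0,1,0,2,0,1,0,1],
[0,2,1,0,1,0,2,0,1,0,1,2],
[2,1,0,1,0,2,0,1,0,1,2,0],
[1,0,1,0,2,0,1,0,1,2,0,2],
[0,1,0,2,0,1,0,1,2,0,2,1],
[1,0,2,0,1,0,1,2,0,2,1,0],
[0,2,0,1,0,1,2,0,2,1,0,1],
[2,0,1,0,1,2,0,2,1,0,1,0],
[0,1,0,1,2,0,2,1,0,1,0,2],
[1,2,1,2,0,2,0,1,2,1,2,0,2,0,1,2,1,2,0,2,0],
[2,1,2,0,2,0,1,2,1,2,0,2,0,1,2,1,2,0,2,0,1],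
[1,2,0,2,0,1,2,1,2,0,2,0,1,2,1,2,0,2,0,1,2],
[2,0,2,0,1,2,1,2,0,2,0,1,2,1,2,0,2,0,1,2,1],
[0,2,0,1,2,1,2,0,2,0,1,2,1,2,0,2,0,1,2,1,2],
[2,0,1,2,1,2,0,2,0,1,2,1,2,0,2,0,1,2,1,2,0],
[2,0,2,1,2,1,0,2,0,2,1,2,1,0,2,0,2,1,2,1,0],
[0,2,1,2,1,0,2,0,2,1,2,1,0,2,0,2,1,2,1,0,2],
[2,1,2,1,0,2,0,2,1,2,1,0,2,0,2,1,2,1,0,2,0],
[1,2,1,0,2,0,2,1,2,1,0,2,0,2,1,2,1,0,2,0,2],
[2,1,0,2,0,2,1,2,1,0,2,0,2,1,2,1,0,2,0,2,1],
[1,0,2,0,2,1,2,1,0,2,0,2,1,2,1,0,2,0,2,1,2],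
[0,2,0,2,1,2,1,0,2,0,2,1,2,1,0,2,0,2,1,2,1],
[0,1,2],
[1,2,0],
[1,0,2],
[0,2,1],
[2,1,0]]

/-- certificate data -/
def factArr : PArr :=
(L 0x3100100100008060000080000000002f00100100008040000040000000002300000c000003000000c0002000002100100100004020000000000000001f0010010000c060000080002000001d00000200008060001080000000001a0010020000c0400008c000000000180010010000c02000100000200000060000120000c2600018c00020000004001001000006800008400030000002001001000001c0001000003000000200000000003fe0001880000000000000100100000620000880002000000000000000003fe0001040000000000000000000003fe0000800000)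

/-- certificate data -/
def refArr : PArr :=
(L 0x900000c00000100000c00000100000b00000900000700000100000b00000100000a00000b00000900000100000b000000000008000003000006000008000002000005000001000006000004000006000004000003000001000002000000000003000004000002000005000003000000000002000004000003000001000002000000000003000000000003000001000003000000000001)

/-- certificate data -/
def defArr : PArr :=
(L 0x10000010000000000000000)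

/-- certificate data -/
def repArr : PArr :=
(L 0x0)

/-- certificate data -/
def tableArr : PArr :=
(L 0x38000000000d0000000002c0000)

/-- certificate data -/
def treeArr : PArr :=
(L 0x0)

/-- certificate data -/
def wordTree : WTree :=
(WTree.node (WTree.node (WTree.node (WTree.node (WTree.node (WTree.node (WTree.leaf [])
(WTree.leaf [0,2,0,1,0,1,2,0,2,1,0,1]))
(WTree.node (WTree.leaf [0,2,0,2,0,2,0,2,0,2,0,2])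
(WTree.leaf [0,1,2])))
(WTree.node (WTree.node (WTree.leaf [2,0,2,0,2,0,2,0,2,0,2,0])
(WTree.leaf [2,0,1,2,1,2,0,2,0,1,2,1,2,0,2,0,1,2,1,2,0]))
(WTree.node (WTree.leaf [0,1,2,0,2,1,0,1,0,2,0,1])
(WTree.leaf []))))
(WTree.node (WTree.node (WTree.node (WTree.leaf [0,0])
(WTree.leaf [2,1,2,0,2,0,1,2,1,2,0,2,0,1,2,1,2,0,2,0,1]))
(WTree.node (WTree.leaf [0,2,1,2,0,2,0,2,1,2,0,2,0,2,1,2,0,2])
(WTree.leaf [2,1,0])))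
(WTree.node (WTree.node (WTree.leaf [1,0,1,2,0,2,1,0,1,0,2,0])
(WTree.leaf [1,2,1,0,2,0,2,1,2,1,0,2,0,2,1,2,1,0,2,0,2]))
(WTree.node (WTree.leaf [2,1,0,1,0,2,0,1,0,1,2,0])
(WTree.leaf [])))))
(WTree.node (WTree.node (WTree.node (WTree.node (WTree.leaf [1,1])
(WTree.leaf [0,1,0,1,2,0,2,1,0,1,0,2]))
(WTree.node (WTree.leaf [1,0,1,0,1,0,1,0,1,0,1,0])
(WTree.leaf [1,0,2])))
(WTree.node (WTree.node (WTree.leaf [0,1,0,1,0,1,0,1,0,1,0,1])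
(WTree.leaf [0,2,1,2,1,0,2,0,2,1,2,1,0,2,0,2,1,2,1,0,2]))
(WTree.node (WTree.leaf [2,0,2,1,0,1,0,2,0,1,0,1])
(WTree.leaf []))))
(WTree.node (WTree.node (WTree.node (WTree.leaf [2,2])
(WTree.leaf [2,0,2,0,1,2,1,2,0,2,0,1,2,1,2,0,2,0,1,2,1]))
(WTree.node (WTree.leaf [1,2,0,2,0,2,1,2,0,2,0,2,1,2,0,2,0,2])
(WTree.leaf [])))
(WTree.node (WTree.node (WTree.leaf [2,0,1])
(WTree.leaf [1,0,2,0,2,1,2,1,0,2,0,2,1,2,1,0,2,0,2,1,2]))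
(WTree.node (WTree.leaf [0,1,0,2,0,1,0,1,2,0,2,1])
(WTree.leaf []))))))
(WTree.node (WTree.node (WTree.node (WTree.node (WTree.node (WTree.leaf [0,0])
(WTree.leaf [2,0,1,0,1,2,0,2,1,0,1,0]))
(WTree.node (WTree.leaf [1,2,1,2,1,2,1,2,1,2,1,2])
(WTree.leaf [1,2,0])))
(WTree.node (WTree.node (WTree.leaf [2,1,2,1,2,1,2,1,2,1,2,1])
(WTree.leaf [2,0,2,1,2,1,0,2,0,2,1,2,1,0,2,0,2,1,2,1,0]))
(WTree.node (WTree.leaf [1,2,0,2,1,0,1,0,2,0,1,0])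
(WTree.leaf []))))
(WTree.node (WTree.node (WTree.node (WTree.leaf [1,1])
(WTree.leaf [1,2,0,2,0,1,2,1,2,0,2,0,1,2,1,2,0,2,0,1,2]))
(WTree.node (WTree.leaf [2,1,2,0,2,0,2,1,2,0,2,0,2,1,2,0,2,0])
(WTree.leaf [])))
(WTree.node (WTree.node (WTree.leaf [0,1,2,1,2,0,2,0,1,2,1,2,0,2,0,1,2,1,2,0,2])
(WTree.leaf [2,1,0,2,0,2,1,2,1,0,2,0,2,1,2,1,0,2,0,2,1]))
(WTree.node (WTree.leaf [1,0,1,0,2,0,1,0,1,2,0,2])
(WTree.leaf [])))))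
(WTree.node (WTree.node (WTree.node (WTree.node (WTree.leaf [2,2])
(WTree.leaf [1,2,1,2,0,2,0,1,2,1,2,0,2,0,1,2,1,2,0,2,0]))
(WTree.node (WTree.leaf [2,0,2,1,2,0,2,0,2,1,2,0,2,0,2,1,2,0])
(WTree.leaf [0,2,1])))
(WTree.node (WTree.node (WTree.leaf [0,2,0,2,1,2,0,2,0,2,1,2,0,2,0,2,1,2])
(WTree.leaf [2,1,2,1,0,2,0,2,1,2,1,0,2,0,2,1,2,1,0,2,0]))
(WTree.node (WTree.leaf [0,2,1,0,1,0,2,0,1,0,1,2])
(WTree.leaf []))))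
(WTree.node (WTree.node (WTree.node (WTree.leaf [1,0,1,0,1,0,1,0,1,0,1,0])
(WTree.leaf [0,2,0,1,2,1,2,0,2,0,1,2,1,2,0,2,0,1,2,1,2]))
(WTree.node (WTree.leaf [2,0,2,0,2,1,2,0,2,0,2,1,2,0,2,0,2,1])
(WTree.leaf [])))
(WTree.node (WTree.node (WTree.leaf [0,1,0,1,0,1,0,1,0,1,0,1])
(WTree.leaf [0,2,0,2,1,2,1,0,2,0,2,1,2,1,0,2,0,2,1,2,1]))
(WTree.node (WTree.leaf [1,0,2,0,1,0,1,2,0,2,1,0])
(WTree.leaf [])))))))

/-- certificate data -/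
def data : EnumData :=
⟨3, 1, 15, wordList, 53, 53, wordTree, 15, factArr, refArr, defArr, repArr, tableArr, treeArr⟩

end Cfsg.Agent.H16.ONMW
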