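import Cfsg.Agent.H16.SuzHData

/-! Kernel checks of the certificate: Suz, subgroup H. -/

set_option autoImplicit false

namespace Cfsg.Agent.H16.SuzH

open EnumData

theorem facts_0 : allFrom (fun i => data.checkFact i) 4000 0 = true := by decide +kernel

theorem facts_1 : allFrom (fun i => data.checkFact i) 4000 4000 = true := by decide +kernel

theorem facts_2 : allFrom (fun i => data.checkFact i) 4000 8000 = true := by decide +kernel

theorem facts_3 : allFrom (fun i => data.checkFact i) 4000 12000 = true := by decide +kernel

theorem facts_4 : allFrom (fun i => data.checkFact i) 4000 16000 = true := by decide +kernel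

theorem facts_5 : allFrom (fun i => data.checkFact i) 4000 20000 = true := by decide +kernel

theorem facts_6 : allFrom (fun i => data.checkFact i) 2778 24000 = true := by decide +kernel

theorem rows_0 : allFrom (fun i => data.checkRow i) 1000 0 = true := by decide +kernel

theorem rows_1 : allFrom (fun i => data.checkRow i) 782 1000 = true := by decide +kernel

theorem base_check : data.checkBase = true := by decide +kernel

/-- The certificate is valid. -/
theorem valid : data.Valid where
  facts_ok :=
    (allFrom_extend (allFrom_extend (allFrom_extend (allFrom_extend (allFrom_extend (allFrom_extend (allFrom_extend allFrom_nil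
    facts_0)
    facts_1)
    facts_2)
    facts_3)
    facts_4)
    facts_5)
    facts_6)
  rows_ok :=
    (allFrom_extend (allFrom_extend allFrom_nil
    rows_0)
    rows_1)
  base_ok := base_check

end Cfsg.Agent.H16.SuzH
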