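import Cfsg.Prelude.Def_Sporadic
import Cfsg.Agent.H16.CosetSimple
import Cfsg.Agent.H16.SuzH
import Cfsg.Agent.H16.SuzHOrbits
import Cfsg.Agent.H16.SuzHBase
import Cfsg.Agent.H16.SuzT0Check
import Cfsg.Agent.H16.SuzT1Check
import Cfsg.Agent.H16.SuzT2Check
import Cfsg.Agent.H16.SuzT3Check
import Cfsg.Agent.H16.SuzWCheck

/-! The order and simplicity of the presented Suzuki group. -/

set_option autoImplicit false

namespace Cfsg.Agent.H16.SuzOrder

open Cfsg.Spor EnumData CoxEnum

/-- relator words -/
abbrev baseWords : List (List Nat) := SuzH.data.words.take SuzH.data.nbase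

theorem wordGroupSuz : WordGroup Suz SuzH.val baseWords := CoxEnum.wordGroup SuzH.presCheck

theorem step3 : checkStep SuzT3.weakData baseWords [0,1] [] = true := by decide +kernel
theorem step2 : checkStep SuzT2.weakData baseWords [0,1,2,3] [0,1] = true := by decide +kernel
theorem step1 : checkStep SuzT1.weakData baseWords [0,1,2,3,4] [0,1,2,3] = true := by decide +kernel
theorem step0 : checkStep SuzT0.weakData baseWords [0,1,2,3,4,5] [0,1,2,3,4] = true := by
  decide +kernel
theorem stepTop : checkStep SuzH.data baseWords (List.range 7) [0,1,2,3,4,5] = true := by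
  decide +kernel

theorem tower_prod : SuzH.data.n * (SuzT0.weakData.n * (SuzT1.weakData.n * (SuzT2.weakData.n *
    (SuzT3.weakData.n * 1)))) = 448345497600 := by decide +kernel

theorem finite_card_le : Finite Suz ∧ Nat.card Suz ≤ 448345497600 := by
  have h3 := tower_step wordGroupSuz SuzT3.valid step3 (letterSub_nil _)
  have h2 := tower_step wordGroupSuz SuzT2.valid step2 h3
  have h1 := tower_step wordGroupSuz SuzT1.valid step1 h2
  have h0 := tower_step wordGroupSuz SuzT0.valid step0 h1
  have ht := tower_step wordGroupSuz SuzH.valid stepTop h0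
  have htop : letterSub SuzH.val (List.range 7) = ⊤ := letterSub_all SuzH.presCheck
  rw [htop, Subgroup.card_top, tower_prod] at ht
  exact ⟨haveI := ht.1; Finite.of_equiv _ Subgroup.topEquiv.toEquiv, ht.2⟩

instance : Finite Suz := finite_card_le.1

theorem card_and_faithful :
    Nat.card Suz = 448345497600 ∧ Function.Injective SuzH.theModel.rho :=
  SuzH.theModel.card_eq_of_le SuzH.base_ok SuzH.base_prod finite_card_le.2

/-- a word of order eleven -/
abbrev w11 : List Nat := [6,5,4,2,3,1]

theorem w11_fix : allFrom (fun i => Nat.beq (SuzH.data.run (List.replicate 11 w11).flatten i) i)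
    SuzH.data.n 0 = true := by decide +kernel

theorem w11_lt : ∀ g ∈ w11, g < SuzH.data.ng := by decide +kernel

theorem stepW : checkStep SuzW.weakData (baseWords ++ [w11]) (List.range 7) [] = true := by
  decide +kernel

theorem w_n : SuzW.weakData.n = 1 := by decide +kernel

theorem isSimple : IsSimpleGroup Suz := by
  obtain ⟨hcard, hinj⟩ := card_and_faithful
  have hnt : Nontrivial Suz := Finite.one_lt_card_iff_nontrivial.mp (by rw [hcard]; norm_num)
  have hH : Nat.card SuzH.sub = 251596800 := by
    have h := Subgroup.index_mul_card SuzH.sub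
    rw [SuzH.index_sub, hcard] at h
    omega
  have hsub : SuzH.sub ≤ Subgroup.closure
      {x | ∃ k ∈ SuzH.subWords, ev SuzH.val (nthWord SuzH.data.words k) = x} := SuzH.sub_eq.le
  refine isSimpleGroup_of_maximal SuzH.sub
    (fun K hK => SuzH.theModel.eq_or_eq_top (sizes := [1, 1365, 416]) hsub SuzH.orbits_ok ?_ ?_ ?_ ?_
      ?_ rfl ?_ K hK)
    (fun N hN hle => SuzH.theModel.core_eq_bot hinj N hN hle)
    (p := 11) (k := 1) (by norm_num) (by rw [hH]; decide)
    (ev SuzH.val w11) ?_ ?_
  · intro i hi
    have h : allFrom (fun i => Nat.ble (bitField (SuzH.labArr.get 60 i) 0 8).succ 3)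
        SuzH.data.n 0 = true := by decide +kernel
    exact Nat.le_of_ble_eq_true (allFrom_spec h i (Nat.zero_le _) (by omega))
  · intro l hl
    change l < 3 at hl
    interval_cases l
    exacts [SuzH.rep_lt_0, SuzH.rep_lt_1, SuzH.rep_lt_2]
  · intro l hl
    change l < 3 at hl
    interval_cases l
    exacts [SuzH.rep_lab_0, SuzH.rep_lab_1, SuzH.rep_lab_2]
  · intro l hl
    change l < 3 at hl
    interval_cases l
    exacts [SuzH.count_0, SuzH.count_1, SuzH.count_2]
  · decide +kernel
  · have hn : SuzH.data.n = 1782 := rfl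
    rw [hn]
    decide
  · rw [pow_one]; exact SuzH.theModel.pow_eq_one hinj w11 w11_lt 11 w11_fix
  · intro N hN hw
    exact normal_eq_top wordGroupSuz SuzW.valid (letterSub_all SuzH.presCheck) stepW w_n N hN hw

theorem isSuz : Cfsg.IsSuz Suz := ⟨isSimple, card_and_faithful.1⟩

end Cfsg.Agent.H16.SuzOrder
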