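import Cfsg.Agent.H16.CosetEnum

/-! Enumeration certificate data: Suz, subgroup T3. -/

set_option autoImplicit false
set_option maxRecDepth 20000

namespace Cfsg.Agent.H16.SuzT3

local notation "L" => PArr.leaf
local notation "N" => PArr.node

/-- certificate data -/
def wordList : List (List Nat) :=
[[],
[0,0],
[1,1],
[0,0],
[1,1],
[1,0,1,0,1,0,1,0,1,0],
[0,1,0,1,0,1,0,1,0,1]]

/-- certificate data -/
def factArr : PArr :=
(L 0x80010001c0c0004040009000000000000000003fe0004800007000000000000000003fe0004000006000000000000000003fe0003840005000000000000000003fe0003040004000000000000000003fe0002800003000000000000000003fe0002000002000000000000000003fe0001840001000000000000000003fe0001040000000000000000000003fe0000800000)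

/-- certificate data -/
def refArr : PArr :=
(L 0x7000005000003000001000000000002000004000006000008)

/-- certificate data -/
def defArr : PArr :=
(L 0x380000608000a1000100000180000208000210000000000000000)

/-- certificate data -/
def repArr : PArr :=
(L 0x2400080001c00060001400040000c0002000040000)

/-- certificate data -/
def tableArr : PArr :=
(L 0x90002000002000070000090002400001c00060000060001400002000090000050001000001c00080000060001c00001000030000050001800000c00020000020000400001000050000010000000000c00040000020000c0000000000000001000080000000001)

/-- certificate data -/
def treeArr : PArr :=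
(L 0x380000608000a1000100000180000208000210000000000000000)

/-- certificate data -/
def wordTree : WTree :=
(WTree.node (WTree.node (WTree.node (WTree.leaf [])
(WTree.leaf [1,1]))
(WTree.node (WTree.leaf [1,1])
(WTree.leaf [0,1,0,1,0,1,0,1,0,1])))
(WTree.node (WTree.node (WTree.leaf [0,0])
(WTree.leaf [1,0,1,0,1,0,1,0,1,0]))
(WTree.node (WTree.leaf [0,0])
(WTree.leaf []))))

/-- certificate data -/
def data : EnumData :=
⟨2, 10, 10, wordList, 7, 7, wordTree, 6, factArr, refArr, defArr, repArr, tableArr, treeArr⟩

end Cfsg.Agent.H16.SuzT3
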